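import Cfsg.Agent.Lib.PGroup.FourSizes.PrimePower
import Mathlib.GroupTheory.Nilpotent

/-!
Class sizes `1, n, m, n m` with coprime `n, m`: the group is nilpotent and `n`, `m` are prime powers.
-/

set_option autoImplicit false
set_option linter.style.haveILetI false
set_option linter.unusedSectionVars false

namespace CfsgLib.FourSizes

open Subgroup
open CfsgLib.ThreeCop (IsQ Full vq mem_cent exists_full exists_full' isQ_of_mem isPGroup_zpowers
  mem_normalizer_of_conj commute_conj commute_center sylow_full parts self_mem_cent)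
open CfsgLib.ClassGraph (cidx)

variable {G : Type*} [Group G] [Finite G] {n m : ℕ} (h : Hyp G n m)

theorem Full.not_dvd_relIndex' {q : ℕ} [hq : Fact q.Prime] {R H : Subgroup G} (hR : Full q R H) :
    ¬ q ∣ R.relIndex H := by
  intro hd
  have h1 := relIndex_mul_relIndex ⊥ R H bot_le hR.le
  rw [relIndex_bot_left, relIndex_bot_left, hR.card] at h1
  have h2 : q ^ (vq q H + 1) ∣ Nat.card H := by
    rw [← h1, pow_succ]; exact Nat.mul_dvd_mul_left _ hd
  have := (hq.out.pow_dvd_iff_le_factorization Nat.card_pos.ne').1 h2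
  rw [vq] at this
  omega

include h in
theorem Hyp.other_central {r s : ℕ} (hr : ∀ k : ℕ, k.Prime → k ∣ n → k = r)
    (hs : ∀ k : ℕ, k.Prime → k ∣ m → k = s) {k : ℕ} (hk : k.Prime) (hkr : k ≠ r) (hks : k ≠ s)
    {u : G} (hu : IsQ k u) : u ∈ center G :=
  h.central_of_not_dvd hk (fun hd => hkr (hr k hk hd)) (fun hd => hks (hs k hk hd)) hu

include h in
theorem Hyp.sylow_normal_right {r s : ℕ} [hr' : Fact r.Prime] [hs' : Fact s.Prime] {x : G}
    (hx : IsQ r x) (hxn : cidx x = n) (hr : ∀ k : ℕ, k.Prime → k ∣ n → k = r)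
    (hs : ∀ k : ℕ, k.Prime → k ∣ m → k = s) (S : Sylow s G) : (S : Subgroup G).Normal := by
  have hrn : r ∣ n := h.dvd_n hr'.out hx hxn
  have hrm : ¬ r ∣ m := h.not_both hr'.out hrn
  have hsm : s ∣ m := by
    obtain ⟨k, hk, hkm⟩ := Nat.exists_prime_and_dvd (show m ≠ 1 by have := h.hm; omega)
    exact hs k hk hkm ▸ hkm
  have hsn : ¬ s ∣ n := h.symm.not_both hs'.out hsm
  have hsr : s ≠ r := fun e => hsn (e ▸ hrn)
  set W := centralizer ({x} : Set G) with hW
  have hWi : W.index = n := hxn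
  obtain ⟨Q, hQW⟩ := exists_full' s W
  have hQ : Full s Q (⊤ : Subgroup G) := hQW.fs_top (by rw [hWi]; exact hsn)
  obtain ⟨R, hxR, hR⟩ := exists_full (isPGroup_zpowers hx) (zpowers_le.2 (self_mem_cent x) : _ ≤ W)
  have hT := h.symm.twoReg hx hxn
  have hvq : ∀ b ∈ W, ¬ r ∣ orderOf b → vq r (W ⊓ centralizer ({b} : Set G)) = vq r W := by
    intro b hb hbr
    have h1 := vq_add_index r (W ⊓ centralizer ({b} : Set G))
    have h2 := vq_add_index r W
    rw [← relIndex_mul_index inf_le_left, inf_relIndex_left] at h1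
    have h3 : ((centralizer ({b} : Set G)).relIndex W) = cidx (⟨b, hb⟩ : W) := (cidx_sub W ⟨b, hb⟩).symm
    have h4 : ¬ r ∣ (centralizer ({b} : Set G)).relIndex W := by
      rw [h3]
      rcases hT ⟨b, hb⟩ (by rw [← orderOf_coe]; exact hbr) with e | e <;> rw [e]
      · exact hr'.out.not_dvd_one
      · exact hrm
    rw [Nat.factorization_mul (fun h0 => h4 (by rw [h0]; exact dvd_zero r)) index_ne_zero_of_finite,
      Finsupp.add_apply, Nat.factorization_eq_zero_of_not_dvd h4] at h1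
    omega
  have hRn : W ≤ normalizer (R : Set G) := by
    rw [← subgroupOf_eq_top]
    refine PGroup.eq_top_of_forall_conj_mem _ fun g => ?_
    obtain ⟨a, b, hc, hab, ha, hb, haz, hbz⟩ := parts r (g : G)
    have haW : a ∈ W := zpowers_le.2 g.2 haz
    have hbW : b ∈ W := zpowers_le.2 g.2 hbz
    obtain ⟨R', hle, hR'⟩ := exists_full (isPGroup_zpowers ha)
      (zpowers_le.2 ⟨haW, mem_cent.2 hc⟩ : _ ≤ W ⊓ centralizer ({b} : Set G))
    have hR'W : Full r R' W := ⟨hR'.le.trans inf_le_left, hR'.pg, by rw [hR'.card, hvq b hbW hb]⟩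
    obtain ⟨c, hc', hcc⟩ := hR.fs_conj_iff hR'W
    refine ⟨⟨c, hc'⟩, ?_⟩
    rw [mem_subgroupOf]
    refine mem_normalizer_of_conj fun z hz => ?_
    rw [hcc]
    have h1 : c * z * c⁻¹ ∈ R' := (hcc z).1 hz
    have h2 : (g : G) * (c * z * c⁻¹) * (g : G)⁻¹ ∈ R' := by
      rw [hab]
      have h3 : Commute (c * z * c⁻¹) b := mem_cent.1 (hR'.le h1).2
      have haR : a ∈ R' := hle (mem_zpowers a)
      have e : a * b * (c * z * c⁻¹) * (a * b)⁻¹ = a * (c * z * c⁻¹) * a⁻¹ := by
        calc a * b * (c * z * c⁻¹) * (a * b)⁻¹ = a * (b * (c * z * c⁻¹) * b⁻¹) * a⁻¹ := by group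
          _ = _ := by rw [← h3.eq, mul_inv_cancel_right]
      rw [e]
      exact R'.mul_mem (R'.mul_mem haR h1) (R'.inv_mem haR)
    simpa [mul_assoc] using h2
  have hRmem : ∀ a ∈ W, IsQ r a → a ∈ R := fun a ha haq => hR.mem_of_isQ ha haq (hRn ha)
  have hRQ : ∀ u ∈ R, ∀ v ∈ W, IsQ s v → Commute u v := by
    intro u hu v hv hvs
    obtain ⟨R', hR'⟩ := exists_full' r (W ⊓ centralizer ({v} : Set G))
    have hle : R' ≤ R := fun a ha => hRmem a (hR'.le ha).1 (isQ_of_mem hR'.pg ha)
    have he : R' = R := eq_of_le_of_card_ge hle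
      (by rw [hR.card, hR'.card, hvq v hv (hvs.not_dvd_of_ne hr'.out hsr.symm)])
    rw [← he] at hu
    exact mem_cent.1 (hR'.le hu).2
  -- the normal closure of `R` is an `r`-group
  obtain ⟨P, hP⟩ := hR.pg.exists_le_sylow
  set O := normalClosure (R : Set G) with hO
  have hOP : O ≤ P := by
    rw [hO, Subgroup.normalClosure, closure_le]
    intro z hz
    obtain ⟨u, hu, huz⟩ := Group.mem_conjugatesOfSet_iff.1 hz
    obtain ⟨g, rfl⟩ := isConj_iff.1 huz
    have hQu : Q ≤ centralizer ({u} : Set G) := fun v hv =>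
      mem_cent.2 (hRQ u hu v (hQW.le hv) (isQ_of_mem hQW.pg hv)).symm
    have hsu : ¬ s ∣ cidx u := by
      intro hd
      have h1 := hd.trans (index_dvd_of_le hQu)
      have h2 := vq_add_index s Q
      have h3 := (Fact.out : s.Prime).factorization_pos_of_dvd index_ne_zero_of_finite h1
      have h4 : vq s Q = vq s (⊤ : Subgroup G) := by
        rw [vq, hQ.card, Nat.Prime.factorization_pow (Fact.out : s.Prime), Finsupp.single_eq_same]
      omega
    have hco : (cidx u).Coprime (P : Subgroup G).index := by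
      refine Nat.coprime_of_dvd fun k hk h1 h2 => ?_
      have hkn : k ∣ n := by
        rcases h.sizes u with e | e | e | e
        · rw [e] at h1; exact absurd (Nat.eq_one_of_dvd_one h1) hk.ne_one
        · exact e ▸ h1
        · exact absurd (e ▸ hsm) hsu
        · exact absurd (e ▸ hsm.mul_left n) hsu
      obtain rfl := hr k hk hkn
      exact P.not_dvd_index h2
    obtain ⟨c, hc, w, hw, hcw⟩ := exists_mul_of_index_coprime hco g⁻¹
    have hg : g = w⁻¹ * c⁻¹ := by rw [← inv_inv g, hcw]; group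
    rw [SetLike.mem_coe, hg]
    have e : w⁻¹ * c⁻¹ * u * (w⁻¹ * c⁻¹)⁻¹ = w⁻¹ * u * w := by
      calc w⁻¹ * c⁻¹ * u * (w⁻¹ * c⁻¹)⁻¹ = w⁻¹ * (c⁻¹ * u * c) * w := by group
        _ = _ := by rw [mul_assoc c⁻¹, ← (mem_cent.1 hc).eq, inv_mul_cancel_left]
    rw [e]
    exact mul_mem (mul_mem (inv_mem hw) (hP hu)) hw
  have hRO : R ≤ O := fun a ha => subset_normalClosure ha
  have hOpg : IsPGroup r O := P.isPGroup'.to_le hOP
  have hQO : Q ≤ centralizer (O : Set G) := by
    refine Coprime.pq_lemma (P := zpowers x) (U := O) (isPGroup_zpowers hx) ?_ hOpg ?_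
      (by rw [normalizer_eq_top]; exact le_top) (by rw [normalizer_eq_top]; exact le_top) ?_
    · rw [hQW.card]
      exact Nat.Coprime.pow_left _ ((Nat.coprime_primes hs'.out hr'.out).2 hsr)
    · rw [zpowers_le]
      exact mem_centralizer_iff.2 fun v hv => (mem_cent.1 (hQW.le hv)).eq
    · intro z hz
      have hzR : z ∈ R := hRmem z
        (mem_cent.2 ((mem_centralizer_iff.1 hz.2 x (mem_zpowers x)) : x * z = z * x).symm)
        (isQ_of_mem hOpg hz.1)
      exact mem_centralizer_iff.2 fun v hv =>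
        (hRQ z hzR v (hQW.le hv) (isQ_of_mem hQW.pg hv)).symm.eq
  set L := centralizer (O : Set G) with hL
  haveI hLn : L.Normal := normalizer_eq_top_iff.1 (top_le_iff.1 (by
    rw [← normalizer_eq_top (H := O)]; exact Coprime.normalizer_le_normalizer_centralizer O))
  have hxO : x ∈ O := hRO (hxR (mem_zpowers x))
  have hLr : ∀ a ∈ L, IsQ r a → a ∈ O := by
    intro a ha haq
    obtain ⟨c, hc⟩ := ThreeCop.exists_conj_mem_sylow P (isPGroup_zpowers haq)
    have h1 : c * a * c⁻¹ ∈ L := hLn.conj_mem a ha c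
    have h2 : c * a * c⁻¹ ∈ R := hRmem _
      (mem_cent.2 ((mem_centralizer_iff.1 h1 x hxO) : x * (c * a * c⁻¹) = c * a * c⁻¹ * x).symm)
      (haq.conj c)
    have h3 := (normalClosure_normal : O.Normal).conj_mem _ (hRO h2) c⁻¹
    simpa [mul_assoc] using h3
  have hLN : L ≤ normalizer (Q : Set G) := by
    rw [← relIndex_eq_one]
    by_contra hne
    obtain ⟨k, hk, hkd⟩ := Nat.exists_prime_and_dvd hne
    haveI := Fact.mk hk
    by_cases hks : k = s
    · subst hks
      have h1 := hkd.trans (relIndex_dvd_of_le_left L (le_normalizer : Q ≤ normalizer (Q : Set G)))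
      refine Full.not_dvd_relIndex' hQ ?_
      rw [relIndex_top_right]
      exact h1.trans (Dvd.intro _ (relIndex_mul_index hQO))
    · obtain ⟨K, hK⟩ := exists_full' k L
      refine Full.not_dvd_relIndex' hK (hkd.trans (relIndex_dvd_of_le_left L fun a ha => ?_))
      have hcom : ∀ v ∈ Q, Commute a v := by
        intro v hv
        by_cases hkr : k = r
        · subst hkr
          exact mem_centralizer_iff.1 (hQO hv) a (hLr a (hK.le ha) (isQ_of_mem hK.pg ha))
        · exact (commute_center (h.other_central hr hs hk hkr hks (isQ_of_mem hK.pg ha)) v).symm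
      exact mem_normalizer_of_conj fun v hv => by
        rw [(hcom v hv).eq, mul_inv_cancel_right]; exact hv
  have hQn : ∀ g : G, ∀ v ∈ Q, g * v * g⁻¹ ∈ Q := fun g v hv =>
    hQ.mem_of_isQ (mem_top _) ((isQ_of_mem hQ.pg hv).conj g) (hLN (hLn.conj_mem v (hQO hv) g))
  obtain ⟨c, -, hc⟩ := (sylow_full S).fs_conj_iff hQ
  have hSQ : (S : Subgroup G) = Q := by
    ext a
    refine ⟨fun ha => ?_, fun ha => ?_⟩
    · have := hQn c⁻¹ _ ((hc a).1 ha)
      simpa [mul_assoc] using this
    · exact (hc a).2 (hQn c a ha)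
  rw [hSQ]
  exact ⟨fun v hv g => hQn g v hv⟩

include h in
theorem Hyp.main : Group.IsNilpotent G ∧ IsPrimePow n ∧ IsPrimePow m := by
  obtain ⟨r, hr, x, hx, hxn⟩ := h.exists_primary
  obtain ⟨s, hs, y, hy, hym⟩ := h.symm.exists_primary
  haveI := Fact.mk hr
  haveI := Fact.mk hs
  have hrn : ∀ k : ℕ, k.Prime → k ∣ n → k = r := fun k hk hkn => h.prime_eq hr hx hxn hk hkn
  have hsm : ∀ k : ℕ, k.Prime → k ∣ m → k = s := fun k hk hkn => h.symm.prime_eq hs hy hym hk hkn
  refine ⟨?_, ?_, ?_⟩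
  · refine (Group.isNilpotent_of_finite_tfae (G := G)).out 0 3 |>.2 ?_
    intro k hk S
    by_cases hkr : k = r
    · subst hkr; exact h.symm.sylow_normal_right hy hym hsm hrn S
    by_cases hks : k = s
    · subst hks; exact h.sylow_normal_right hx hxn hrn hsm S
    refine ⟨fun a ha g => ?_⟩
    rw [ThreeCop.conj_center (h.other_central hrn hsm hk.out hkr hks (isQ_of_mem S.isPGroup' ha))]
    exact ha
  · exact isPrimePow_iff_unique_prime_dvd.2 ⟨r, ⟨hr, h.dvd_n hr hx hxn⟩, fun k hk => hrn k hk.1 hk.2⟩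
  · exact isPrimePow_iff_unique_prime_dvd.2 ⟨s, ⟨hs, h.dvd_m hs hy hym⟩, fun k hk => hsm k hk.1 hk.2⟩

end CfsgLib.FourSizes
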