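import Cfsg.Agent.Lib.PGroup.FourSizes.Setup

/-!
Class sizes `1, n, m, n m`: primary elements of class size `n` commute with primary elements of
class size `m`.
-/

set_option autoImplicit false
set_option linter.style.haveILetI false
set_option linter.unusedSectionVars false

namespace CfsgLib.FourSizes

open Subgroup
open CfsgLib.ThreeCop (IsQ Full vq mem_cent exists_full exists_full' isQ_of_mem isPGroup_zpowers
  mem_normalizer_of_conj commute_conj commute_center sylow_full parts self_mem_cent)
open CfsgLib.ClassGraph (cidx)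
open scoped Pointwise

variable {G : Type*} [Group G] [Finite G] {n m : ℕ} (h : Hyp G n m)

/-- A pair of conjugates is conjugate to the pair. -/
theorem simul {x y : G} (hco : (cidx x).Coprime (cidx y)) (g k : G) :
    ∃ c : G, g * x * g⁻¹ = c * x * c⁻¹ ∧ k * y * k⁻¹ = c * y * c⁻¹ := by
  obtain ⟨a, ha, b, hb, hab⟩ := ClassGraph.exists_mul_of_coprime (x := y) (y := x) hco.symm (k⁻¹ * g)
  have ha' : a * y * a⁻¹ = y := mul_inv_eq_iff_eq_mul.2 (mem_cent.1 ha)
  have hb' : b * x * b⁻¹ = x := mul_inv_eq_iff_eq_mul.2 (mem_cent.1 hb)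
  refine ⟨k * a, ?_, ?_⟩
  · rw [show g = k * (a * b) by rw [← hab]; group]
    calc k * (a * b) * x * (k * (a * b))⁻¹ = k * a * (b * x * b⁻¹) * (k * a)⁻¹ := by group
      _ = _ := by rw [hb']
  · conv_lhs => rw [← ha']
    group

theorem commute_all {x y : G} (hco : (cidx x).Coprime (cidx y)) (hc : Commute x y) (g k : G) :
    Commute (g * x * g⁻¹) (k * y * k⁻¹) := by
  obtain ⟨c, e1, e2⟩ := simul hco g k
  rw [e1, e2]
  exact commute_conj hc c

theorem commute_of_conj {x y : G} (hco : (cidx x).Coprime (cidx y)) {g k : G}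
    (hc : Commute (g * x * g⁻¹) (k * y * k⁻¹)) : Commute x y := by
  have := commute_all (x := g * x * g⁻¹) (y := k * y * k⁻¹)
    (by rw [ClassGraph.cidx_conj, ClassGraph.cidx_conj]; exact hco) hc g⁻¹ k⁻¹
  simpa [mul_assoc] using this

/-- The quotients of conjugates of `y`. -/
def dsub (y : G) : Subgroup G :=
  closure {t | ∃ g k : G, t = (g * y * g⁻¹)⁻¹ * (k * y * k⁻¹)}

instance dsub_normal (y : G) : (dsub y).Normal := ClassGraph.normal_of_gens (by
  rintro t ⟨g, k, rfl⟩ u
  exact ⟨u * g, u * k, by group⟩)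

theorem mul_inv_mem_dsub (y g : G) : (g * y * g⁻¹)⁻¹ * y ∈ dsub y :=
  subset_closure ⟨g, 1, by group⟩

theorem inv_mul_mem_dsub (y g : G) : y⁻¹ * (g * y * g⁻¹) ∈ dsub y :=
  subset_closure ⟨1, g, by group⟩

/-- A pair of noncommuting primary elements. -/
structure Bad (n m : ℕ) (x y : G) (r s : ℕ) : Prop where
  hr : r.Prime
  hs : s.Prime
  hx : IsQ r x
  hy : IsQ s y
  xn : cidx x = n
  ym : cidx y = m
  nc : ¬ Commute x y

variable {x y : G} {r s : ℕ}

include h in
theorem Bad.cop (b : Bad n m x y r s) : (cidx x).Coprime (cidx y) := by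
  rw [b.xn, b.ym]; exact h.cop

theorem Bad.swap (b : Bad n m x y r s) : Bad m n y x s r :=
  ⟨b.hs, b.hr, b.hy, b.hx, b.ym, b.xn, fun hc => b.nc hc.symm⟩

include h in
theorem Bad.dvd_m (b : Bad n m x y r s) : r ∣ m := by
  by_contra hr
  haveI := Fact.mk b.hr
  obtain ⟨g, hg⟩ := exists_conj_commute (q := r) (b := y) (by rw [b.ym]; exact hr) b.hx
  exact b.nc (commute_of_conj (b.cop h) (g := g) (k := 1) (by simpa using hg))

include h in
theorem Bad.dvd_n (b : Bad n m x y r s) : s ∣ n := b.swap.dvd_m h.symm

include h in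
theorem Bad.ne (b : Bad n m x y r s) : r ≠ s := fun e =>
  h.not_both b.hs (b.dvd_n h) (e ▸ b.dvd_m h)

include h in
theorem Bad.smul_eq (b : Bad n m x y r s) (hlt : m < n) {t : G} (ht : t ∈ dsub y) :
    t • (ConjClasses.mk x).carrier = (ConjClasses.mk x).carrier := by
  classical
  set L : Set G := (ConjClasses.mk x).carrier with hL
  set K : Set G := (ConjClasses.mk (y * x)).carrier with hK
  have hLc : L.ncard = n := (PGroup.ncard_carrier_eq_index x).trans b.xn
  obtain ⟨h1, h2, -⟩ := ClassGraph.class_product (a := y) (b := x) (b.cop h).symm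
  have hyx : cidx (y * x) = n := by
    rw [b.xn] at h1
    have hn := h.hn
    rcases h.sizes (y * x) with e | e | e | e
    · omega
    · exact e
    · omega
    · exfalso
      have hle : centralizer ({x} : Set G) ⊓ centralizer ({y} : Set G) ≤
          centralizer ({y * x} : Set G) := fun t ht =>
        mem_cent.2 ((mem_cent.1 ht.2).mul_right (mem_cent.1 ht.1))
      have hidx : (centralizer ({x} : Set G) ⊓ centralizer ({y} : Set G)).index = n * m :=
        (ClassGraph.index_inf_of_coprime (b.cop h)).trans (congrArg₂ (· * ·) b.xn b.ym)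
      have he : centralizer ({x} : Set G) ⊓ centralizer ({y} : Set G) = centralizer ({y * x} : Set G) := by
        refine eq_of_le_of_card_ge hle (le_of_eq ?_)
        refine Nat.eq_of_mul_eq_mul_left (n := n * m) (Nat.pos_of_ne_zero ?_) ?_
        · rw [← hidx]; exact index_ne_zero_of_finite
        · conv_lhs => rw [← e, index_mul_card]
          rw [← hidx, index_mul_card]
      have hm := self_mem_cent (y * x)
      rw [← he] at hm
      refine b.nc ?_
      have := (mem_cent.1 hm.1).mul_left (Commute.refl x).inv_left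
      simpa using this.symm
  have hKc : K.ncard = n := (PGroup.ncard_carrier_eq_index _).trans hyx
  have key : ∀ g : G, (g * y * g⁻¹) • L = K := by
    intro g
    refine Set.eq_of_subset_of_ncard_le ?_ (by rw [hKc, Set.ncard_smul_set, hLc]) (Set.toFinite _)
    rintro _ ⟨z, hz, rfl⟩
    obtain ⟨k, rfl⟩ := isConj_iff.1 (ConjClasses.mk_eq_mk_iff_isConj.1
      (ConjClasses.mem_carrier_iff_mk_eq.1 hz).symm)
    obtain ⟨c, e1, e2⟩ := simul (b.cop h) k g
    rw [hK, ConjClasses.mem_carrier_iff_mk_eq, ConjClasses.mk_eq_mk_iff_isConj]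
    refine (isConj_iff.2 ⟨c, ?_⟩ : IsConj (y * x) _).symm
    show c * (y * x) * c⁻¹ = g * y * g⁻¹ * (k * x * k⁻¹)
    rw [e1, e2]; group
  have hle : dsub y ≤ MulAction.stabilizer G L := by
    rw [dsub, closure_le]
    rintro _ ⟨g, k, rfl⟩
    show _ • L = L
    rw [mul_smul, key k, ← key g, inv_smul_smul]
  exact hle ht

include h in
theorem Bad.card_dvd (b : Bad n m x y r s) (hlt : m < n) : Nat.card (dsub y) ∣ n := by
  have h1 := card_dvd_of_smul_eq fun t ht => b.smul_eq h hlt (t := t) ht
  rwa [PGroup.ncard_carrier_eq_index, show (centralizer ({x} : Set G)).index = n from b.xn] at h1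

include h in
theorem Bad.dsub_le (b : Bad n m x y r s) (hlt : m < n) (g : G) :
    dsub y ≤ centralizer ({g * y * g⁻¹} : Set G) := by
  rw [← relIndex_eq_one]
  refine h.eq_one_of_dvd_both ((relIndex_dvd_card _ _).trans (b.card_dvd h hlt)) ?_
  have := PGroup.relIndex_dvd_index_normal_right (centralizer ({g * y * g⁻¹} : Set G)) (dsub y)
  rwa [show (centralizer ({g * y * g⁻¹} : Set G)).index = m from
    (ClassGraph.cidx_conj g y).trans b.ym] at this

include h in
theorem Bad.conj_commute (b : Bad n m x y r s) (hlt : m < n) (g k : G) :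
    Commute (g * y * g⁻¹) (k * y * k⁻¹) := by
  have h1 : Commute ((g * y * g⁻¹)⁻¹ * (k * y * k⁻¹)) (g * y * g⁻¹) :=
    mem_cent.1 (b.dsub_le h hlt g (subset_closure ⟨g, k, rfl⟩))
  have := (Commute.refl (g * y * g⁻¹)).mul_left h1
  rw [mul_inv_cancel_left] at this
  exact this.symm

include h in
theorem Bad.dsub_comm (b : Bad n m x y r s) (hlt : m < n) {u v : G} (hu : u ∈ dsub y)
    (hv : v ∈ dsub y) : Commute u v := by
  have hle : dsub y ≤ centralizer (dsub y : Set G) := by
    conv_lhs => rw [dsub]
    rw [closure_le]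
    rintro _ ⟨g, k, rfl⟩
    refine mem_centralizer_iff.2 fun w hw => ?_
    exact ((mem_cent.1 (b.dsub_le h hlt g hw)).inv_right.mul_right
      (mem_cent.1 (b.dsub_le h hlt k hw))).eq
  exact (mem_centralizer_iff.1 (hle hu) v hv).symm

include h in
theorem Bad.dsub_pg (b : Bad n m x y r s) (hlt : m < n) : IsPGroup s (dsub y) := by
  haveI := Fact.mk b.hs
  obtain ⟨e, he⟩ := b.hy
  intro z
  refine ⟨e, Subtype.ext ?_⟩
  show (z : G) ^ s ^ e = 1
  obtain ⟨z, hz⟩ := z
  have hg : ∀ g : G, (g * y * g⁻¹) ^ s ^ e = 1 := fun g => by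
    rw [conj_pow, he, mul_one, mul_inv_cancel]
  show z ^ s ^ e = 1
  unfold dsub at hz
  induction hz using Subgroup.closure_induction with
  | mem t ht =>
    obtain ⟨g, k, rfl⟩ := ht
    rw [(b.conj_commute h hlt g k).inv_left.mul_pow, inv_pow, hg, hg, inv_one, one_mul]
  | one => exact one_pow _
  | mul u v hu hv iu iv => rw [(b.dsub_comm h hlt hu hv).mul_pow, iu, iv, one_mul]
  | inv u _ iu => rw [inv_pow, iu, inv_one]

include h in
theorem Bad.eq_one (b : Bad n m x y r s) (hlt : m < n) {c : G} (hc : c ∈ dsub y)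
    (hcx : Commute c x) : c = 1 := by
  haveI := Fact.mk b.hr
  haveI := Fact.mk b.hs
  have hcs : IsQ s c := isQ_of_mem (b.dsub_pg h hlt) hc
  have hmem : c * x ∈ (ConjClasses.mk x).carrier := by
    rw [← b.smul_eq h hlt hc]
    exact Set.smul_mem_smul_set (a := c) ConjClasses.mem_carrier_mk
  rw [ConjClasses.mem_carrier_iff_mk_eq, ConjClasses.mk_eq_mk_iff_isConj] at hmem
  obtain ⟨g, hg⟩ := isConj_iff.1 hmem.symm
  have ho : orderOf (c * x) = orderOf x := by rw [← hg, ThreeCop.orderOf_conj']
  rw [hcx.orderOf_mul_eq_mul_orderOf_of_coprime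
    (hcs.coprime (b.hx.not_dvd_of_ne b.hs (b.ne h).symm))] at ho
  exact orderOf_eq_one_iff.1 ((Nat.mul_eq_right (orderOf_pos x).ne').1 ho)

include h in
theorem Bad.dsub_ne (b : Bad n m x y r s) : dsub y ≠ ⊥ := fun e =>
  h.symm.not_center_n b.ym (mem_center_iff.2 fun g => by
    have h1 := inv_mul_mem_dsub y g
    rw [e, mem_bot, inv_mul_eq_one, eq_mul_inv_iff_mul_eq] at h1
    exact h1.symm)

/-! ### Every primary element of `C(x) ∩ C(y)` is central -/

include h in
theorem Bad.false_of_cent (b : Bad n m x y r s) (hlt : m < n) {u : G} (hu : cidx u = m)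
    (hxu : Commute x u) (hyu : Commute y u)
    (he : centralizer ({y * u} : Set G) ≤ centralizer ({y} : Set G) ⊓ centralizer ({u} : Set G)) :
    False := by
  have he' : centralizer ({y * u} : Set G) = centralizer ({y} : Set G) ⊓ centralizer ({u} : Set G) :=
    le_antisymm he fun t ht => mem_cent.2 ((mem_cent.1 ht.1).mul_right (mem_cent.1 ht.2))
  rcases h.of_dvd (g := y * u) (b.ym ▸ index_dvd_of_le (he.trans inf_le_left)) with e | e
  · have e1 := ClassGraph.centralizer_eq_of_le (he.trans inf_le_left) (b.ym.trans e.symm)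
    have e2 := ClassGraph.centralizer_eq_of_le (he.trans inf_le_right) (hu.trans e.symm)
    have hx : x ∈ centralizer ({y} : Set G) := by rw [← e1, e2]; exact mem_cent.2 hxu
    exact b.nc (mem_cent.1 hx)
  · have h1 : (centralizer ({y} : Set G) ⊓ centralizer ({u} : Set G)).index = n * m := he' ▸ e
    rw [← relIndex_mul_index inf_le_left, inf_relIndex_left,
      show (centralizer ({y} : Set G)).index = m from b.ym] at h1
    have h2 := Nat.eq_of_mul_eq_mul_right (by have := h.hm; omega) h1
    have h3 : (centralizer ({u} : Set G)).relIndex (centralizer ({y} : Set G)) ≤ m := by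
      refine le_trans (relIndex_le_of_le_right le_top (by
        rw [relIndex_top_right]; exact index_ne_zero_of_finite)) (le_of_eq ?_)
      rw [relIndex_top_right]; exact hu
    omega

include h in
theorem Bad.central_of_mem (b : Bad n m x y r s) (hlt : m < n) {t : ℕ} (ht : t.Prime) {u : G}
    (hu : IsQ t u) (hxu : Commute x u) (hyu : Commute y u) : u ∈ center G := by
  haveI := Fact.mk b.hr
  haveI := Fact.mk b.hs
  -- the cases other than the common prime
  have hnm : ∀ (q : ℕ) (v : G), q.Prime → IsQ q v → Commute x v → Commute y v → cidx v ≠ n * m := by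
    intro q v hq hv hxv hyv hvi
    haveI := Fact.mk hq
    by_cases hqr : q = r
    · have := h.P1 hvi hyv.symm (hv.coprime (b.hy.not_dvd_of_ne hq (hqr ▸ b.ne h)))
      exact b.nc (mem_cent.1 (this (mem_cent.2 hxv)))
    · have := h.P1 hvi hxv.symm (hv.coprime (b.hx.not_dvd_of_ne hq hqr))
      exact b.nc (mem_cent.1 (this (mem_cent.2 hyv))).symm
  have hm1 : ∀ (q : ℕ) (v : G), q.Prime → q ≠ s → IsQ q v → Commute x v → Commute y v →
      cidx v ≠ m := by
    intro q v hq hqs hv hxv hyv hvi
    haveI := Fact.mk hq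
    exact b.false_of_cent h hlt hvi hxv hyv
      (ClassGraph.centralizer_mul_le hyv (b.hy.coprime (hv.not_dvd_of_ne b.hs hqs.symm)))
  have hr_all : ∀ v : G, IsQ r v → Commute x v → Commute y v → v ∉ center G → cidx v = n := by
    intro v hv hxv hyv hvZ
    rcases h.sizes v with e | e | e | e
    · exact absurd (ClassGraph.mem_center_of_cidx e) hvZ
    · exact e
    · exact absurd e (hm1 r v b.hr (b.ne h) hv hxv hyv)
    · exact absurd e (hnm r v b.hr hv hxv hyv)
  have hm2 : ∀ v : G, IsQ s v → Commute x v → Commute y v → cidx v ≠ m := by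
    intro v hv hxv hyv hvi
    by_cases hd : ∃ (r' : ℕ) (d : G), r'.Prime ∧ IsQ r' d ∧ cidx d = n ∧ Commute x d ∧ Commute y d ∧
        ¬ Commute d v
    · obtain ⟨r', d, hr', hd, hdn, -, -, hdv⟩ := hd
      have b' : Bad n m d v r' s := ⟨hr', b.hs, hd, hv, hdn, hvi, hdv⟩
      refine b.false_of_cent h hlt hvi hxv hyv fun g hg => ?_
      have hxM : dsub v ≤ centralizer ({x} : Set G) := by
        rw [dsub, closure_le]
        rintro _ ⟨g, k, rfl⟩
        have hall : ∀ k : G, Commute x (k * v * k⁻¹) := fun k => by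
          simpa using commute_all (by rw [b.xn, hvi]; exact h.cop) hxv 1 k
        exact mem_cent.2 ((hall g).inv_right.mul_right (hall k)).symm
      have hg' : Commute g (y * v) := mem_cent.1 hg
      have e : (g * y * g⁻¹) * (g * v * g⁻¹) = y * v := by
        rw [← mul_inv_eq_iff_eq_mul.2 hg'.eq]; group
      have e1 : y⁻¹ * (g * y * g⁻¹) = (g * v * g⁻¹)⁻¹ * v := by
        have hcc : Commute v (g * v * g⁻¹)⁻¹ := by
          simpa using (b'.conj_commute h hlt 1 g).inv_right
        rw [← hcc.eq, inv_mul_eq_iff_eq_mul, ← mul_assoc, ← e, mul_inv_cancel_right]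
      have h1 : y⁻¹ * (g * y * g⁻¹) = 1 := by
        refine b.eq_one h hlt (inv_mul_mem_dsub y g) ?_
        rw [e1]
        exact mem_cent.1 (hxM (mul_inv_mem_dsub v g))
      have hgy : Commute g y := mul_inv_eq_iff_eq_mul.1 (inv_mul_eq_one.1 h1).symm
      refine ⟨mem_cent.2 hgy, mem_cent.2 ?_⟩
      have := hg'
      have h2 := hgy.inv_right.mul_right this
      rwa [inv_mul_cancel_left] at h2
    · push Not at hd
      obtain ⟨R, hR⟩ := exists_full' r (centralizer ({x} : Set G) ⊓ centralizer ({y} : Set G))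
      have hcw : ∀ w ∈ R, Commute x w ∧ Commute y w := fun w hw =>
        ⟨(mem_cent.1 (hR.le hw).1).symm, (mem_cent.1 (hR.le hw).2).symm⟩
      have hRv : R ≤ centralizer ({v} : Set G) := fun w hw => by
        by_cases hwZ : w ∈ center G
        · exact mem_cent.2 (commute_center hwZ v).symm
        · exact mem_cent.2 (hd r w b.hr (isQ_of_mem hR.pg hw) (hr_all w (isQ_of_mem hR.pg hw)
            (hcw w hw).1 (hcw w hw).2 hwZ) (hcw w hw).1 (hcw w hw).2)
      set J := centralizer ({x} : Set G) ⊓ centralizer ({v} : Set G) with hJ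
      have hvq : vq r J = vq r (centralizer ({x} : Set G) ⊓ centralizer ({y} : Set G)) := by
        refine vq_eq_of_index_eq r ?_
        rw [hJ, ClassGraph.index_inf_of_coprime (by
            rw [show (centralizer ({v} : Set G)).index = m from hvi, show (centralizer ({x} : Set G)).index = n from b.xn]; exact h.cop),
          ClassGraph.index_inf_of_coprime (b.cop h)]
        exact congrArg _ (hvi.trans b.ym.symm)
      have hfull : Full r R J := ⟨le_inf (hR.le.trans inf_le_left) hRv, hR.pg, by rw [hR.card, hvq]⟩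
      have hxR : x ∈ R := hfull.mem_of_isQ ⟨self_mem_cent x, mem_cent.2 hxv⟩ b.hx
        (mem_normalizer_of_conj fun w hw => by
          rw [(hcw w hw).1.eq, mul_inv_cancel_right]; exact hw)
      exact b.nc (mem_cent.1 (hR.le hxR).2)
  have hn1 : ∀ (q : ℕ) (v : G), q.Prime → q ≠ r → IsQ q v → Commute x v → Commute y v →
      cidx v ≠ n := by
    intro q v hq hqr hv hxv hyv hvi
    haveI := Fact.mk hq
    have hle := ClassGraph.centralizer_mul_le hxv (b.hx.coprime (hv.not_dvd_of_ne b.hr hqr.symm))
    have he := cent_inf hxv (b.hx.coprime (hv.not_dvd_of_ne b.hr hqr.symm))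
    have hd : n ∣ cidx (x * v) := b.xn ▸ index_dvd_of_le (hle.trans inf_le_left)
    rcases h.symm.of_dvd hd with e | e
    · have e1 := ClassGraph.centralizer_eq_of_le (hle.trans inf_le_left) (b.xn.trans e.symm)
      have e2 := ClassGraph.centralizer_eq_of_le (hle.trans inf_le_right) (hvi.trans e.symm)
      have hy : y ∈ centralizer ({x} : Set G) := by rw [← e1, e2]; exact mem_cent.2 hyv
      exact b.nc (mem_cent.1 hy).symm
    · have h1 : (centralizer ({x} : Set G) ⊓ centralizer ({v} : Set G)).index = m * n := he ▸ e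
      rw [← relIndex_mul_index inf_le_right, inf_relIndex_right,
        show (centralizer ({v} : Set G)).index = n from hvi] at h1
      have h2 := Nat.eq_of_mul_eq_mul_right (by have := h.hn; omega) h1
      have hM : dsub y ≤ centralizer ({v} : Set G) := by
        rw [dsub, closure_le]
        rintro _ ⟨g, k, rfl⟩
        have hall : ∀ k : G, Commute v (k * y * k⁻¹) := fun k => by
          simpa using commute_all (by rw [hvi, b.ym]; exact h.cop) hyv.symm 1 k
        exact mem_cent.2 ((hall g).inv_right.mul_right (hall k)).symm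
      have h3 := h2 ▸ relIndex_dvd_relIndex_normal (centralizer ({x} : Set G)) hM
      have h4 : (centralizer ({x} : Set G)).relIndex (dsub y) = Nat.card (dsub y) := by
        rw [← inf_relIndex_right, show centralizer ({x} : Set G) ⊓ dsub y = ⊥ from
          (eq_bot_iff_forall _).2 fun c hc => b.eq_one h hlt hc.2 (mem_cent.1 hc.1), relIndex_bot_left]
      rw [h4] at h3
      exact b.dsub_ne h (card_eq_one.1 (h.eq_one_of_dvd_both (b.card_dvd h hlt) h3))
  have hs_all : ∀ v : G, IsQ s v → Commute x v → Commute y v → v ∈ center G := by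
    intro v hv hxv hyv
    by_contra hvZ
    rcases h.sizes v with e | e | e | e
    · exact hvZ (ClassGraph.mem_center_of_cidx e)
    · exact hn1 s v b.hs (b.ne h).symm hv hxv hyv e
    · exact hm2 v hv hxv hyv e
    · exact hnm s v b.hs hv hxv hyv e
  haveI := Fact.mk ht
  by_contra huZ
  by_cases hts : t = s
  · subst hts; exact huZ (hs_all u hu hxu hyu)
  rcases h.sizes u with e | e | e | e
  · exact huZ (ClassGraph.mem_center_of_cidx e)
  · by_cases htr : t = r
    · subst htr
      obtain ⟨R, hR⟩ := exists_full' s (centralizer ({x} : Set G) ⊓ centralizer ({y} : Set G))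
      have hRZ : R ≤ center G := fun w hw => hs_all w (isQ_of_mem hR.pg hw)
        (mem_cent.1 (hR.le hw).1).symm (mem_cent.1 (hR.le hw).2).symm
      have hvq : vq s (centralizer ({u} : Set G)) =
          vq s (centralizer ({x} : Set G) ⊓ centralizer ({y} : Set G)) := by
        have h1 := vq_add_index s (centralizer ({u} : Set G))
        have h2 := vq_add_index s (centralizer ({x} : Set G) ⊓ centralizer ({y} : Set G))
        rw [show (centralizer ({u} : Set G)).index = n from e] at h1
        rw [ClassGraph.index_inf_of_coprime (b.cop h)] at h2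
        change _ + (cidx x * cidx y).factorization s = _ at h2
        rw [b.xn, b.ym, Nat.factorization_mul (by have := h.hn; omega) (by have := h.hm; omega),
          Finsupp.add_apply, Nat.factorization_eq_zero_of_not_dvd
            (h.not_both b.hs (b.dvd_n h)), add_zero] at h2
        omega
      have hfull : Full s R (centralizer ({u} : Set G)) :=
        ⟨hRZ.trans (center_le_centralizer _), hR.pg, by rw [hR.card, hvq]⟩
      have hM : dsub y ≤ centralizer ({u} : Set G) := by
        rw [dsub, closure_le]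
        rintro _ ⟨g, k, rfl⟩
        have hall : ∀ k : G, Commute u (k * y * k⁻¹) := fun k => by
          simpa using commute_all (by rw [e, b.ym]; exact h.cop) hyu.symm 1 k
        exact mem_cent.2 ((hall g).inv_right.mul_right (hall k)).symm
      refine b.dsub_ne h ((eq_bot_iff_forall _).2 fun c hc => b.eq_one h hlt hc ?_)
      have hcR : c ∈ R := hfull.mem_of_isQ (hM hc) (isQ_of_mem (b.dsub_pg h hlt) hc)
        (mem_normalizer_of_conj fun w hw => by rw [ThreeCop.conj_center (hRZ hw)]; exact hw)
      exact (commute_center (hRZ hcR) x).symm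
    · exact hn1 t u ht htr hu hxu hyu e
  · exact hm1 t u ht hts hu hxu hyu e
  · exact hnm t u ht hu hxu hyu e

include h in
theorem Bad.false_of_lt (b : Bad n m x y r s) (hlt : m < n) : False := by
  have hTZ : centralizer ({x} : Set G) ⊓ centralizer ({y} : Set G) ≤ center G := by
    intro g hg
    by_contra hgZ
    obtain ⟨t, ht, u, hu, huz, huZ⟩ := FourSizes.exists_primary hgZ
    have hle := cent_le_of_mem_zpowers huz
    exact huZ (b.central_of_mem h hlt ht hu
      (mem_cent.1 (hle (mem_cent.2 (mem_cent.1 hg.1).symm)))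
      (mem_cent.1 (hle (mem_cent.2 (mem_cent.1 hg.2).symm))))
  obtain ⟨w, hw⟩ := h.exnm
  have heq : center G = centralizer ({x} : Set G) ⊓ centralizer ({y} : Set G) :=
    le_antisymm (le_inf (center_le_centralizer _) (center_le_centralizer _)) hTZ
  have hwi : (center G).index = (centralizer ({w} : Set G)).index := by
    rw [heq, ClassGraph.index_inf_of_coprime (b.cop h)]
    exact (congrArg₂ (· * ·) b.xn b.ym).trans hw.symm
  refine h.not_center_nm hw ?_
  have he : center G = centralizer ({w} : Set G) := by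
    refine eq_of_le_of_card_ge (center_le_centralizer _) (le_of_eq ?_)
    refine Nat.eq_of_mul_eq_mul_left (Nat.pos_of_ne_zero (center G).index_ne_zero_of_finite) ?_
    conv_lhs => rw [hwi]
    rw [index_mul_card, index_mul_card]
  rw [he]; exact self_mem_cent w

include h in
/-- Primary elements of class sizes `n` and `m` commute. -/
theorem Hyp.commute_primary {r s : ℕ} (hr : r.Prime) (hs : s.Prime) {x y : G} (hx : IsQ r x)
    (hy : IsQ s y) (hxn : cidx x = n) (hym : cidx y = m) : Commute x y := by
  by_contra hc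
  have b : Bad n m x y r s := ⟨hr, hs, hx, hy, hxn, hym, hc⟩
  rcases h.ne.lt_or_gt with hlt | hlt
  · exact b.swap.false_of_lt h.symm hlt
  · exact b.false_of_lt h hlt

end CfsgLib.FourSizes
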