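import Cfsg.Agent.Lib.PGroup.FourSizes.Primes
import Mathlib.GroupTheory.Transfer

/-!
Class sizes `1, n, m, n m`: `n` is a prime power.
-/

set_option autoImplicit false
set_option linter.style.haveILetI false
set_option linter.unusedSectionVars false

namespace CfsgLib.FourSizes

open Subgroup
open CfsgLib.ThreeCop (IsQ Full vq mem_cent exists_full exists_full' isQ_of_mem isPGroup_zpowers
  mem_normalizer_of_conj commute_conj commute_center sylow_full parts self_mem_cent)
open CfsgLib.ClassGraph (cidx)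

variable {G : Type*} [Group G] [Finite G] {n m : ℕ} (h : Hyp G n m)

/-- The prime `p` and another prime `r` divide `n`, and `x` is an `r`-element of class size `n`. -/
structure Multi (n : ℕ) (x : G) (r : ℕ) : Prop where
  hr : r.Prime
  hx : IsQ r x
  xn : cidx x = n
  other : ∃ p : ℕ, p.Prime ∧ p ∣ n ∧ p ≠ r

variable {x : G} {r : ℕ}

include h in
/-- The elements of other prime order in the centralizer of a primary element of class size `n`. -/
theorem Hyp.cent_le_of_n {r p : ℕ} [hr : Fact r.Prime] [hp : Fact p.Prime] (hpr : p ≠ r)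
    (hpn : p ∣ n) {x a : G} (hx : IsQ r x) (hxn : cidx x = n) (ha : IsQ p a) (hxa : Commute a x) :
    centralizer ({x} : Set G) ≤ centralizer ({a} : Set G) := by
  have hc := (h.symm.twoReg hx hxn).central h.hm (h.not_both hr.out (h.dvd_n hr.out hx hxn))
    hpr (h.not_both hp.out hpn)
    ((isQ_coe (v := (⟨a, mem_cent.2 hxa⟩ : ↥(centralizer ({x} : Set G))))).1 ha)
  exact mem_center_sub.1 hc

include h in
theorem Hyp.ne_m {p : ℕ} [hp : Fact p.Prime] (hpn : p ∣ n) {a : G} (ha : IsQ p a) : cidx a ≠ m :=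
  fun e => h.not_both hp.out hpn (h.dvd_m hp.out ha e)

include h in
theorem Hyp.sylow_not_center' {p : ℕ} [hp : Fact p.Prime] (hpn : p ∣ n) (P : Sylow p G) :
    ¬ (P : Subgroup G) ≤ center G := fun hle => by
  obtain ⟨g, hg⟩ := h.exn
  exact P.not_dvd_index ((hg ▸ hpn).trans (index_dvd_of_le (hle.trans (center_le_centralizer _))))

include h in
/-- `W = C(x)` has a noncentral element of each prime divisor of `n`, with the same centralizer. -/
theorem Multi.exists_elem (d : Multi n x r) {p : ℕ} [hp : Fact p.Prime] (hpn : p ∣ n) :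
    ∃ u : G, IsQ p u ∧ cidx u = n ∧ centralizer ({u} : Set G) = centralizer ({x} : Set G) := by
  haveI := Fact.mk d.hr
  by_cases hpr : p = r
  · subst hpr; exact ⟨x, d.hx, d.xn, rfl⟩
  obtain ⟨R, hR⟩ := exists_full' p (centralizer ({x} : Set G))
  obtain ⟨u, huR, huZ⟩ : ∃ u ∈ R, u ∉ center G := by
    by_contra hcon
    push Not at hcon
    let P : Sylow p G := default
    obtain ⟨g, hgP, hgZ⟩ := SetLike.not_le_iff_exists.1 (h.sylow_not_center' hpn P)
    have hgq : IsQ p g := isQ_of_mem P.isPGroup' hgP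
    have hd : p ∣ cidx g := by
      by_contra hd
      exact h.ne_m hpn hgq (h.not_dvd_idx hp.out hpn hd hgZ)
    have hfac : n.factorization p ≤ (cidx g).factorization p := by
      rcases h.sizes g with e | e | e | e
      · exact absurd (ClassGraph.mem_center_of_cidx e) hgZ
      · rw [e]
      · exact absurd e (h.ne_m hpn hgq)
      · rw [e, Nat.factorization_mul (by have := h.hn; omega) (by have := h.hm; omega), Finsupp.add_apply]
        omega
    have h1 := vq_add_index p (centralizer ({g} : Set G))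
    have h2 := vq_add_index p (centralizer ({x} : Set G))
    rw [show (centralizer ({x} : Set G)).index = n from d.xn] at h2
    change vq p _ + (cidx g).factorization p = _ at h1
    have hsup := ThreeCop.isPGroup_sup_zpowers hR.pg hgq (mem_normalizer_of_conj fun z hz => by
      rw [ThreeCop.conj_center (hcon z hz)]; exact hz)
    have h3 := ThreeCop.card_le_of_pGroup hsup (sup_le (zpowers_le.2 (self_mem_cent g))
      ((show R ≤ center G from hcon).trans (center_le_centralizer _)))
    have h4 : p ^ vq p (centralizer ({g} : Set G)) ≤ Nat.card R := by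
      rw [hR.card]; exact Nat.pow_le_pow_right hp.out.pos (by omega)
    have h5 : zpowers g ⊔ R = R := (eq_of_le_of_card_ge le_sup_right (h3.trans h4)).symm
    exact hgZ (hcon g (h5 ▸ mem_sup_left (mem_zpowers g)))
  have hu : IsQ p u := isQ_of_mem hR.pg huR
  have hle := h.cent_le_of_n hpr hpn d.hx d.xn hu (mem_cent.1 (hR.le huR))
  have hun := h.of_dvd_n (d.xn ▸ index_dvd_of_le hle) huZ
  exact ⟨u, hu, hun, (ClassGraph.centralizer_eq_of_le hle (hun.trans d.xn.symm)).symm⟩

include h in
/-- The elements of `W` of prime power order for a prime dividing `n` are central in `W`. -/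
theorem Multi.le_cent (d : Multi n x r) {p : ℕ} [hp : Fact p.Prime] (hpn : p ∣ n) {a : G}
    (ha : IsQ p a) (hax : a ∈ centralizer ({x} : Set G)) :
    centralizer ({x} : Set G) ≤ centralizer ({a} : Set G) := by
  haveI := Fact.mk d.hr
  by_cases hpr : p = r
  · subst hpr
    obtain ⟨q, hq, hqn, hqp⟩ := d.other
    haveI := Fact.mk hq
    obtain ⟨u, hu, hun, hueq⟩ := d.exists_elem h hqn
    rw [← hueq] at hax ⊢
    exact h.cent_le_of_n hqp.symm hpn hu hun ha (mem_cent.1 hax)
  · exact h.cent_le_of_n hpr hpn d.hx d.xn ha (mem_cent.1 hax)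

include h in
theorem Multi.cent_eq (d : Multi n x r) {p : ℕ} [hp : Fact p.Prime] (hpn : p ∣ n) {a : G}
    (ha : IsQ p a) (hax : a ∈ centralizer ({x} : Set G)) (haZ : a ∉ center G) :
    centralizer ({a} : Set G) = centralizer ({x} : Set G) := by
  have hle := d.le_cent h hpn ha hax
  exact (ClassGraph.centralizer_eq_of_le hle
    ((h.of_dvd_n (d.xn ▸ index_dvd_of_le hle) haZ).trans d.xn.symm)).symm

include h in
theorem Multi.vq_sylow (d : Multi n x r) {p : ℕ} [hp : Fact p.Prime] (hpn : p ∣ n) :
    n.factorization p = 1 := by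
  haveI := Fact.mk d.hr
  obtain ⟨q, hq, hqn, hqp⟩ : ∃ q : ℕ, q.Prime ∧ q ∣ n ∧ q ≠ p := by
    by_cases hpr : p = r
    · subst hpr; exact d.other
    · exact ⟨r, d.hr, h.dvd_n d.hr d.hx d.xn, fun e => hpr e.symm⟩
  haveI := Fact.mk hq
  let P : Sylow p G := default
  obtain ⟨e, heP, heZ, hep, hec⟩ := ThreeCop.exists_special (Q := (P : Subgroup G)) P.isPGroup' le_rfl
    (fun a ha b hb => (P : Subgroup G).mul_mem ((P : Subgroup G).mul_mem ha hb)
      ((P : Subgroup G).inv_mem ha)) (h.sylow_not_center' hpn P)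
  have he : IsQ p e := isQ_of_mem P.isPGroup' heP
  set C := centralizer ({e} : Set G) with hC
  have hconj : ∀ a ∈ (P : Subgroup G), ∀ c ∈ C, a * c * a⁻¹ ∈ C := fun a ha c hc => by
    have h1 := (ThreeCop.mem_cent_conj a).2 hc
    rwa [(ThreeCop.special_pow hep (hec a ha)).2.2] at h1
  have hPN : (P : Subgroup G) ≤ normalizer (C : Set G) := fun a ha =>
    mem_normalizer_of_conj (hconj a ha)
  set T := (P : Subgroup G) ⊓ C with hT
  -- `P ∩ C` is a Sylow subgroup of `C`
  have hTfull : Full p T C := by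
    refine ⟨inf_le_right, P.isPGroup'.to_le inf_le_left, le_antisymm
      (ThreeCop.card_le_of_pGroup (P.isPGroup'.to_le inf_le_left) inf_le_right) ?_⟩
    obtain ⟨R, hR⟩ := exists_full' p C
    obtain ⟨R', hle, hR'⟩ := exists_full hR.pg (hR.le.trans le_normalizer)
    have hPfull : Full p (P : Subgroup G) (normalizer (C : Set G)) :=
      ⟨hPN, P.isPGroup', le_antisymm (ThreeCop.card_le_of_pGroup P.isPGroup' hPN) (by
        rw [(sylow_full P).card]
        refine Nat.pow_le_pow_right hp.out.pos ?_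
        have := vq_add_index p (normalizer (C : Set G))
        omega)⟩
    obtain ⟨c, hc, hcP⟩ := hR'.conj hPfull
    rw [← hR.card, ← card_map_of_injective (K := R) (f := (MulAut.conj c).toMonoidHom) (MulAut.conj c).injective]
    refine card_le_of_le (H := R.map (MulAut.conj c).toMonoidHom) (K := T) ?_
    rintro _ ⟨z, hz, rfl⟩
    exact ⟨hcP z (hle hz), (mem_normalizer_iff.1 hc z).1 (hR.le hz)⟩
  have hsz : cidx e = n ∨ cidx e = n * m := by
    rcases h.sizes e with e' | e' | e' | e'
    · exact absurd (ClassGraph.mem_center_of_cidx e') heZ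
    · exact Or.inl e'
    · exact absurd e' (h.ne_m hpn he)
    · exact Or.inr e'
  have hfac : ∀ k : ℕ, k.Prime → k ∣ n → (cidx e).factorization k = n.factorization k := by
    intro k hk hkn
    rcases hsz with e' | e' <;> rw [e']
    rw [Nat.factorization_mul (by have := h.hn; omega) (by have := h.hm; omega), Finsupp.add_apply,
      Nat.factorization_eq_zero_of_not_dvd (h.not_both hk hkn), add_zero]
  have hvqC : ∀ k : ℕ, k.Prime → k ∣ n → vq k C = vq k (centralizer ({x} : Set G)) := by
    intro k hk hkn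
    have h1 := vq_add_index k C
    have h2 := vq_add_index k (centralizer ({x} : Set G))
    rw [show (centralizer ({x} : Set G)).index = n from d.xn] at h2
    change vq k _ + (cidx e).factorization k = _ at h1
    rw [hfac k hk hkn] at h1
    omega
  -- the `q`-part of `C` is central in `C`
  obtain ⟨V, hV⟩ := exists_full' q C
  have hcentral : ∀ a ∈ C, IsQ q a → C ≤ centralizer ({a} : Set G) := by
    intro a ha haq
    rcases hsz with e' | e'
    · exact h.cent_le_of_n hqp hqn he e' haq (mem_cent.1 ha)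
    · exact h.P1 e' (mem_cent.1 ha).symm (he.coprime (haq.not_dvd_of_ne hp.out hqp.symm))
  have hVmem : ∀ a ∈ C, IsQ q a → a ∈ V := fun a ha haq => hV.mem_of_isQ ha haq
    (mem_normalizer_of_conj fun v hv => by
      rw [(mem_cent.1 (hcentral a ha haq (hV.le hv))).symm.eq, mul_inv_cancel_right]; exact hv)
  have hVZ : ∃ v ∈ V, v ∉ center G := by
    by_contra hcon
    push Not at hcon
    obtain ⟨u, hu, -, hueq⟩ := d.exists_elem h hqn
    have hfull : Full q V (centralizer ({x} : Set G)) :=
      ⟨fun v hv => mem_cent.2 (commute_center (hcon v hv) x).symm, hV.pg, by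
        rw [hV.card, hvqC q hq hqn]⟩
    have hux : u ∈ centralizer ({x} : Set G) := hueq ▸ self_mem_cent u
    have huV : u ∈ V := hfull.mem_of_isQ hux hu (mem_normalizer_of_conj fun z hz => by
      rw [ThreeCop.conj_center (hcon z hz)]; exact hz)
    have hun : cidx u = n := by rw [cidx, hueq]; exact d.xn
    exact h.not_center_n hun (hcon u huV)
  have hne : T ≠ (P : Subgroup G) := by
    intro e'
    have h1 := hTfull.card
    rw [e', (sylow_full P).card] at h1
    have h2 := Nat.pow_right_injective hp.out.two_le h1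
    have h3 := vq_add_index p C
    change vq p _ + (cidx e).factorization p = _ at h3
    rw [hfac p hp.out hpn] at h3
    have := hp.out.factorization_pos_of_dvd (by have := h.hn; omega : n ≠ 0) hpn
    omega
  have hcard := ThreeCop.card_eq_prime_mul (q := p) (Q := (P : Subgroup G)) (T := T) (V := V)
    P.isPGroup' inf_le_left hne
    (fun a ha t ht => ⟨(P : Subgroup G).mul_mem ((P : Subgroup G).mul_mem ha ht.1)
      ((P : Subgroup G).inv_mem ha), hconj a ha t ht.2⟩)
    (fun a ha => ⟨(P : Subgroup G).pow_mem ha p, (ThreeCop.special_pow hep (hec a ha)).2.1⟩)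
    (fun a ha v hv => hVmem _ (hconj a ha v (hV.le hv)) ((isQ_of_mem hV.pg hv).conj a))
    (fun a ha b hb => mem_cent.1 (hcentral b (hV.le hb) (isQ_of_mem hV.pg hb) (hV.le ha)))
    (fun t ht v hv => mem_cent.1 (hcentral v (hV.le hv) (isQ_of_mem hV.pg hv) ht.2))
    (fun a ha haT v hv hav => by
      by_contra hvZ
      have hvq : IsQ q v := isQ_of_mem hV.pg hv
      have hle := hcentral v (hV.le hv) hvq
      suffices centralizer ({v} : Set G) ≤ C from haT ⟨ha, this (mem_cent.2 hav)⟩
      rcases hsz with e' | e'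
      · exact (ClassGraph.centralizer_eq_of_le hle
          ((h.of_dvd_n (e' ▸ index_dvd_of_le hle) hvZ).trans e'.symm)).ge
      · rcases h.sizes v with e'' | e'' | e'' | e''
        · exact absurd (ClassGraph.mem_center_of_cidx e'') hvZ
        · exact h.cent_le_of_n hqp.symm hpn hvq e'' he (mem_cent.1 (hV.le hv)).symm
        · exact absurd e'' (h.ne_m hqn hvq)
        · exact (ClassGraph.centralizer_eq_of_le hle (e''.trans e'.symm)).ge)
    (fun v hv hvp => by
      obtain ⟨k, hk⟩ := exists_pow_eq_self_of_coprime (x := v) (n := p)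
        (hp.out.coprime_iff_not_dvd.2 ((isQ_of_mem hV.pg hv).not_dvd_of_ne hp.out hqp.symm))
      rw [← hk]; exact pow_mem hvp k)
    hVZ
  rw [(sylow_full P).card, hTfull.card, ← pow_succ'] at hcard
  have h2 := Nat.pow_right_injective hp.out.two_le hcard
  have h3 := vq_add_index p C
  change vq p _ + (cidx e).factorization p = _ at h3
  rw [hfac p hp.out hpn] at h3
  omega

include h in
theorem Multi.normal (d : Multi n x r) : (centralizer ({x} : Set G)).Normal := by
  set W := centralizer ({x} : Set G) with hW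
  refine normalizer_eq_top_iff.1 (index_eq_one.1 ?_)
  by_contra hne
  obtain ⟨p, hp, hpd⟩ := Nat.exists_prime_and_dvd hne
  have hpn : p ∣ n := hpd.trans (d.xn ▸ index_dvd_of_le (le_normalizer : W ≤ _))
  haveI := Fact.mk hp
  obtain ⟨A, hA⟩ := exists_full' p W
  obtain ⟨S, hS⟩ := hA.pg.exists_le_sylow
  have hcard : Nat.card (S : Subgroup G) = p * Nat.card A := by
    rw [(sylow_full S).card, hA.card, ← pow_succ']
    congr 1
    have h1 := vq_add_index p W
    rw [show W.index = n from d.xn, d.vq_sylow h hpn] at h1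
    omega
  have hn : (A.subgroupOf (S : Subgroup G)).Normal := by
    refine normal_of_index_eq_minFac_card ?_
    have h1 := (A.subgroupOf (S : Subgroup G)).card_mul_index
    rw [Nat.card_congr (subgroupOfEquivOfLe hS).toEquiv, hcard, mul_comm p] at h1
    rw [Nat.eq_of_mul_eq_mul_left Nat.card_pos h1]
    obtain ⟨k, hk⟩ := IsPGroup.iff_card.1 S.isPGroup'
    rw [hk, hp.pow_minFac]
    intro h0
    rw [hk, h0, pow_zero] at hcard
    exact hp.not_dvd_one ⟨_, hcard⟩
  obtain ⟨u, hu, hun, hueq⟩ := d.exists_elem h hpn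
  have huA : u ∈ A := hA.mem_of_isQ (show u ∈ W by rw [hW, ← hueq]; exact self_mem_cent u) hu
    (mem_normalizer_of_conj fun z hz => by
      have := mem_cent.1 (d.le_cent h hpn (isQ_of_mem hA.pg hz) (hA.le hz)
        (show u ∈ W by rw [hW, ← hueq]; exact self_mem_cent u))
      rw [this.eq, mul_inv_cancel_right]; exact hz)
  have hSN : (S : Subgroup G) ≤ normalizer (W : Set G) := fun a ha =>
    mem_normalizer_of_conj fun w hw => by
      have hmem : a * u * a⁻¹ ∈ A := hn.conj_mem ⟨u, hS huA⟩ huA ⟨a, ha⟩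
      have hce := d.cent_eq h hpn (hu.conj a) (hA.le hmem)
        (ThreeCop.not_center_conj (h.not_center_n hun) a)
      rw [hW, ← hce]
      exact (ThreeCop.mem_cent_conj a).2 (hueq.symm ▸ hw)
  exact S.not_dvd_index (hpd.trans (index_dvd_of_le hSN))

include h in
theorem Multi.false (d : Multi n x r) : False := by
  haveI hWn := d.normal h
  set W := centralizer ({x} : Set G) with hW
  have hWi : W.index = n := d.xn
  set Q := G ⧸ W with hQdef
  have hcardQ : Nat.card Q = n := by rw [← hWi, index_eq_card]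
  set p := n.minFac with hpdef
  have hn1 : n ≠ 1 := by have := h.hn; omega
  have hp : p.Prime := Nat.minFac_prime hn1
  haveI := Fact.mk hp
  have hpn : p ∣ n := n.minFac_dvd
  -- a normal subgroup of index `p` containing `W`
  let S : Sylow p Q := default
  have hScard : Nat.card (S : Subgroup Q) = p := by
    rw [S.card_eq_multiplicity, hcardQ, d.vq_sylow h hpn, pow_one]
  haveI : IsCyclic (S : Subgroup Q) := isCyclic_of_prime_card hScard
  have hSc : normalizer ((S : Subgroup Q) : Set Q) ≤ centralizer ((S : Subgroup Q) : Set Q) :=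
    IsCyclic.normalizer_le_centralizer (hp := by rw [hcardQ, ← hpdef]) inferInstance
  set N := (MonoidHom.transferSylow S hSc).ker with hN
  have hNc := MonoidHom.ker_transferSylow_isComplement' S hSc
  have hNi : N.index = p := by rw [hN, hNc.symm.index_eq_card, hScard]
  have hNp : ¬ p ∣ Nat.card N := MonoidHom.not_dvd_card_ker_transferSylow S hSc
  set K := N.comap (QuotientGroup.mk' W) with hK
  haveI : K.Normal := Normal.comap (by rw [hN]; infer_instance) _
  have hWK : W ≤ K := fun w hw => by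
    rw [hK, mem_comap, QuotientGroup.mk'_apply, (QuotientGroup.eq_one_iff w).2 hw]
    exact N.one_mem
  have hKi : K.index = p := by
    rw [hK, index_comap_of_surjective _ (QuotientGroup.mk'_surjective W), hNi]
  have hrel : W.relIndex K = Nat.card N := by
    have h1 := relIndex_mul_index hWK
    rw [hKi, hWi, ← hcardQ, ← N.card_mul_index, hNi] at h1
    exact Nat.eq_of_mul_eq_mul_right hp.pos h1
  have hKW : ¬ K ≤ W := fun hle => by
    have h1 := le_antisymm hle hWK
    obtain ⟨q, hq, hqn, hqr⟩ := d.other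
    have h2 := d.hr
    have hr' := h.dvd_n d.hr d.hx d.xn
    rw [h1, hWi] at hKi
    rw [hKi] at hqn hr'
    exact hqr (((Nat.prime_dvd_prime_iff_eq hq hp).1 hqn).trans
      ((Nat.prime_dvd_prime_iff_eq h2 hp).1 hr').symm)
  -- the `p`-part of `W`
  obtain ⟨A, hA⟩ := exists_full' p W
  have hAmem : ∀ a ∈ W, IsQ p a → a ∈ A := fun a ha haq => hA.mem_of_isQ ha haq
    (mem_normalizer_of_conj fun z hz => by
      rw [(mem_cent.1 (d.le_cent h hpn (isQ_of_mem hA.pg hz) (hA.le hz) ha)).eq, mul_inv_cancel_right]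
      exact hz)
  have hAn : ∀ g : G, ∀ a ∈ A, g * a * g⁻¹ ∈ A := fun g a ha =>
    hAmem _ (hWn.conj_mem a (hA.le ha) g) ((isQ_of_mem hA.pg ha).conj g)
  obtain ⟨S₀, hS₀⟩ := hA.pg.exists_le_sylow
  have hAZ : ¬ A ≤ center G := fun hle => by
    obtain ⟨u, hu, hun, hueq⟩ := d.exists_elem h hpn
    exact h.not_center_n hun (hle (hAmem u (by rw [hW, ← hueq]; exact self_mem_cent u) hu))
  obtain ⟨e, heA, heZ, -, hec⟩ := ThreeCop.exists_special (Q := (S₀ : Subgroup G)) S₀.isPGroup' hS₀
    (fun g _ a ha => hAn g a ha) hAZ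
  have hSW : ¬ (S₀ : Subgroup G) ≤ W := fun hle =>
    S₀.not_dvd_index ((hWi.symm ▸ hpn : p ∣ W.index).trans (index_dvd_of_le hle))
  obtain ⟨a, haS, haW⟩ := SetLike.not_le_iff_exists.1 hSW
  have heC : centralizer ({e} : Set G) = W :=
    d.cent_eq h hpn (isQ_of_mem hA.pg heA) (hA.le heA) heZ
  have hAc : ∀ u ∈ A, ∀ v ∈ A, Commute u v := fun u hu v hv =>
    mem_cent.1 (d.le_cent h hpn (isQ_of_mem hA.pg hv) (hA.le hv) (hA.le hu))
  letI : CommGroup A := { A.toGroup with mul_comm := fun u v => Subtype.ext (hAc u.1 u.2 v.1 v.2) }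
  classical
  haveI := Fintype.ofFinite (K ⧸ W.subgroupOf K)
  let f : K ⧸ W.subgroupOf K → A := fun q =>
    Quotient.liftOn' q (fun k => (⟨(k : G) * e * (k : G)⁻¹, hAn k e heA⟩ : A)) fun k l hkl => by
      rw [QuotientGroup.leftRel_apply, mem_subgroupOf, ← heC, mem_cent] at hkl
      refine Subtype.ext ?_
      have h1 : (k : G)⁻¹ * (l : G) * e = e * ((k : G)⁻¹ * (l : G)) := hkl.eq
      show (k : G) * e * (k : G)⁻¹ = (l : G) * e * (l : G)⁻¹
      rw [eq_mul_inv_iff_mul_eq]
      calc (k : G) * e * (k : G)⁻¹ * (l : G) = (k : G) * (e * ((k : G)⁻¹ * (l : G))) := by group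
        _ = _ := by rw [← h1]; group
  set π : A := ∏ q, f q with hπ
  -- conjugation by elements of `K` and by `a` permutes the factors
  let c : G → (A →* A) := fun g =>
    { toFun := fun u => ⟨g * u * g⁻¹, hAn g u u.2⟩
      map_one' := Subtype.ext (by simp)
      map_mul' := fun u v => Subtype.ext (show g * ((u : G) * v) * g⁻¹ = g * u * g⁻¹ * (g * v * g⁻¹) by
        group) }
  have hπK : K ≤ centralizer ({(π : G)} : Set G) := by
    intro k hk
    refine mem_cent.2 (mul_inv_eq_iff_eq_mul.1 ?_)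
    suffices c k π = π from congrArg Subtype.val this
    rw [hπ, map_prod]
    refine Fintype.prod_equiv (MulAction.toPerm (⟨k, hk⟩ : K)) _ _ fun q => ?_
    induction q using Quotient.inductionOn' with
    | h l => exact Subtype.ext (show k * ((l : G) * e * (l : G)⁻¹) * k⁻¹ =
        k * (l : G) * e * (k * (l : G))⁻¹ by group)
  have hπZ : (π : G) ∈ center G := by
    by_contra hZ
    exact hKW (hπK.trans (d.cent_eq h hpn (isQ_of_mem hA.pg π.2) (hA.le π.2) hZ).le)
  obtain ⟨z, hz⟩ : ∃ z, z = a * e * a⁻¹ * e⁻¹ := ⟨_, rfl⟩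
  have hzZ : z ∈ center G := hz ▸ hec a haS
  have hzA : z ∈ A := hz ▸ A.mul_mem (hAn a e heA) (A.inv_mem heA)
  let σ : K ≃ K :=
    { toFun := fun k => ⟨a * k * a⁻¹, Normal.conj_mem inferInstance _ k.2 a⟩
      invFun := fun k => ⟨a⁻¹ * k * a, by simpa using Normal.conj_mem inferInstance _ k.2 a⁻¹⟩
      left_inv := fun k => Subtype.ext (show a⁻¹ * (a * (k : G) * a⁻¹) * a = k by group)
      right_inv := fun k => Subtype.ext (show a * (a⁻¹ * (k : G) * a) * a⁻¹ = k by group) }
  let τ : K ⧸ W.subgroupOf K ≃ K ⧸ W.subgroupOf K := Quotient.congr σ fun k l => by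
    rw [QuotientGroup.leftRel_apply, QuotientGroup.leftRel_apply, mem_subgroupOf, mem_subgroupOf]
    show (k : G)⁻¹ * (l : G) ∈ W ↔ (a * (k : G) * a⁻¹)⁻¹ * (a * (l : G) * a⁻¹) ∈ W
    rw [show (a * (k : G) * a⁻¹)⁻¹ * (a * (l : G) * a⁻¹) = a * ((k : G)⁻¹ * (l : G)) * a⁻¹ by group]
    exact ⟨fun hh => hWn.conj_mem _ hh a, fun hh => by simpa [mul_assoc] using hWn.conj_mem _ hh a⁻¹⟩
  have hfix : c a π = π := Subtype.ext (ThreeCop.conj_center hπZ a)
  have hprod : c a π = (⟨z, hzA⟩ : A) ^ Fintype.card (K ⧸ W.subgroupOf K) * π := by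
    rw [hπ, map_prod, Finset.prod_congr rfl (g := fun q => (⟨z, hzA⟩ : A) * f (τ q)) fun q _ => ?_,
      Finset.prod_mul_distrib, Finset.prod_const, Finset.card_univ, Equiv.prod_comp τ f]
    induction q using Quotient.inductionOn' with
    | h l =>
      refine Subtype.ext ?_
      show a * ((l : G) * e * (l : G)⁻¹) * a⁻¹ = z * (a * (l : G) * a⁻¹ * e * (a * (l : G) * a⁻¹)⁻¹)
      set b := a * (l : G) * a⁻¹ with hb
      calc a * ((l : G) * e * (l : G)⁻¹) * a⁻¹ = b * (a * e * a⁻¹) * b⁻¹ := by rw [hb]; group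
        _ = b * (z * e) * b⁻¹ := by rw [hz]; group
        _ = z * (b * e * b⁻¹) := by
          rw [show b * (z * e) = z * (b * e) by
            rw [← mul_assoc, mem_center_iff.1 hzZ b, mul_assoc]]; group
  rw [hfix, right_eq_mul] at hprod
  have hcardq : Fintype.card (K ⧸ W.subgroupOf K) = W.relIndex K := by
    rw [← Nat.card_eq_fintype_card]; rfl
  have hz1 : z = 1 := (isQ_of_mem hA.pg hzA).eq_one_of_pow
    (by have := congrArg Subtype.val hprod; simpa using this) (by rw [hcardq, hrel]; exact hNp)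
  refine haW (heC ▸ mem_cent.2 ?_)
  have h2 : a * e * a⁻¹ * e⁻¹ = 1 := hz.symm.trans hz1
  exact mul_inv_eq_iff_eq_mul.1 (mul_inv_eq_one.1 h2)

include h in
/-- `n` has only one prime divisor. -/
theorem Hyp.prime_eq {r p : ℕ} (hr : r.Prime) {x : G} (hx : IsQ r x) (hxn : cidx x = n)
    (hp : p.Prime) (hpn : p ∣ n) : p = r := by
  by_contra hpr
  exact Multi.false h (x := x) (r := r) ⟨hr, hx, hxn, p, hp, hpn, hpr⟩

end CfsgLib.FourSizes
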