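import Cfsg.Agent.Lib.PGroup.FourSizes.Commute

/-!
Class sizes `1, n, m, n m`: the prime of a primary element of class size `n` divides `n`.
-/

set_option autoImplicit false
set_option linter.style.haveILetI false
set_option linter.unusedSectionVars false

namespace CfsgLib.FourSizes

open Subgroup
open CfsgLib.ThreeCop (IsQ Full vq mem_cent exists_full exists_full' isQ_of_mem isPGroup_zpowers
  mem_normalizer_of_conj commute_conj commute_center sylow_full parts self_mem_cent)
open CfsgLib.ClassGraph (cidx)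

variable {G : Type*} [Group G] [Finite G] {n m : ℕ} (h : Hyp G n m)

include h in
/-- An element of class size `n` is not central in the centralizer of one of class size `m`. -/
theorem Hyp.sub_noncentral {x y : G} (hxn : cidx x = n) (hym : cidx y = m)
    (hx : x ∈ centralizer ({y} : Set G)) :
    (⟨x, hx⟩ : ↥(centralizer ({y} : Set G))) ∉ center ↥(centralizer ({y} : Set G)) := fun hc => by
  have h1 := mem_center_sub.1 hc
  rw [← relIndex_eq_one, h.relIndex_cent hxn hym] at h1
  have := h.hn
  omega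

include h in
theorem Hyp.dvd_n_of_not_dvd {r s : ℕ} (hr : r.Prime) (hs : s.Prime) {x y : G} (hx : IsQ r x)
    (hy : IsQ s y) (hxn : cidx x = n) (hym : cidx y = m) (hrn : ¬ r ∣ n) : s ∣ n := by
  haveI := Fact.mk hr
  haveI := Fact.mk hs
  have hxV : x ∈ centralizer ({y} : Set G) := mem_cent.2 (h.commute_primary hr hs hx hy hxn hym)
  have hT := h.twoReg hy hym
  have hxZ := h.sub_noncentral hxn hym hxV
  set V := centralizer ({y} : Set G) with hV
  by_contra hsn
  by_cases hrs : r = s
  · subst hrs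
    obtain ⟨R, hle, hR⟩ := exists_full (isPGroup_zpowers ((isQ_coe (v := (⟨x, hxV⟩ : V))).1 hx))
      (zpowers_le.2 (self_mem_cent (⟨x, hxV⟩ : V)))
    refine hxZ (hT.center_of_full hrn (Full.fs_top hR ?_) (hle (mem_zpowers _)) hR.le)
    show ¬ r ∣ cidx (⟨x, hxV⟩ : V)
    rw [cidx_sub, h.relIndex_cent hxn hym]
    exact hrn
  · exact hxZ (hT.central h.hn hsn hrs hrn (isQ_coe.1 hx))

include h in
/-- The prime of a primary element of class size `n` divides `n`. -/
theorem Hyp.dvd_n {r : ℕ} (hr : r.Prime) {x : G} (hx : IsQ r x) (hxn : cidx x = n) : r ∣ n := by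
  by_contra hrn
  haveI := Fact.mk hr
  obtain ⟨s, hs, y, hy, hym⟩ := h.symm.exists_primary
  haveI := Fact.mk hs
  have hsn : s ∣ n := h.dvd_n_of_not_dvd hr hs hx hy hxn hym hrn
  have hsm : ¬ s ∣ m := h.not_both hs hsn
  have hrs : r ≠ s := fun e => hrn (e ▸ hsn)
  have hxV : x ∈ centralizer ({y} : Set G) := mem_cent.2 (h.commute_primary hr hs hx hy hxn hym)
  have hT := h.twoReg hy hym
  set V := centralizer ({y} : Set G) with hV
  refine hT.no_cover h.hn (q := r) hrs hrn (x := ⟨x, hxV⟩) (isQ_coe.1 hx)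
    (h.sub_noncentral hxn hym hxV) fun a ha => ?_
  have ha' : IsQ s (a : G) := isQ_coe.2 ha
  suffices ∃ c : V, Commute (a : G) ((c : G) * x * (c : G)⁻¹) by
    obtain ⟨c, hc⟩ := this
    exact ⟨c, Subtype.ext hc⟩
  rcases h.sizes (a : G) with e | e | e | e
  · exact ⟨1, (commute_center (ClassGraph.mem_center_of_cidx e) _).symm⟩
  · exact absurd (h.symm.dvd_n_of_not_dvd hs hs hy ha' hym e hsm) hsm
  · exact ⟨1, by simpa using (h.commute_primary hr hs hx ha' hxn e).symm⟩
  · obtain ⟨R, hR⟩ := exists_full' r (centralizer ({(a : G)} : Set G))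
    have hRV : R ≤ V := fun w hw => by
      have hP := h.P1 e (mem_cent.1 (hR.le hw)).symm
        (ha'.coprime ((isQ_of_mem hR.pg hw).not_dvd_of_ne hs hrs.symm))
      have hya : y ∈ centralizer ({(a : G)} : Set G) := mem_cent.2 (mem_cent.1 a.2).symm
      exact mem_cent.2 (mem_cent.1 (hP hya)).symm
    have hvq : vq r (centralizer ({(a : G)} : Set G)) = vq r V := by
      have h1 := vq_add_index r (centralizer ({(a : G)} : Set G))
      have h2 := vq_add_index r V
      rw [show (centralizer ({(a : G)} : Set G)).index = n * m from e,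
        Nat.factorization_mul (by have := h.hn; omega) (by have := h.hm; omega),
        Finsupp.add_apply, Nat.factorization_eq_zero_of_not_dvd hrn, zero_add] at h1
      rw [show V.index = m from hym] at h2
      omega
    have hfull : Full r R V := ⟨hRV, hR.pg, by rw [hR.card, hvq]⟩
    obtain ⟨c, hc, hcR⟩ := hfull.fs_exists_conj_mem hxV hx
    exact ⟨⟨c, hc⟩, (mem_cent.1 (hR.le hcR)).symm⟩

include h in
theorem Hyp.dvd_m {s : ℕ} (hs : s.Prime) {y : G} (hy : IsQ s y) (hym : cidx y = m) : s ∣ m :=
  h.symm.dvd_n hs hy hym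

include h in
/-- Primary elements for primes not dividing `n m` are central. -/
theorem Hyp.central_of_not_dvd {l : ℕ} (hl : l.Prime) (hln : ¬ l ∣ n) (hlm : ¬ l ∣ m) {u : G}
    (hu : IsQ l u) : u ∈ center G := by
  haveI := Fact.mk hl
  obtain ⟨r, hr, x, hx, hxn⟩ := h.exists_primary
  haveI := Fact.mk hr
  have hrn := h.dvd_n hr hx hxn
  obtain ⟨g, hg⟩ := exists_conj_commute (q := l) (b := x) (by rw [hxn]; exact hln) hu
  set v := g * u * g⁻¹ with hv
  have hvW : v ∈ centralizer ({x} : Set G) := mem_cent.2 hg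
  have hT := h.symm.twoReg hx hxn
  have hc := hT.central h.hm (h.not_both hr hrn) (fun e : l = r => hln (e ▸ hrn)) hlm
    ((isQ_coe (v := (⟨v, hvW⟩ : ↥(centralizer ({x} : Set G))))).1 (hu.conj g))
  have hle := mem_center_sub.1 hc
  by_contra huZ
  have hvZ : v ∉ center G := ThreeCop.not_center_conj huZ g
  exact hln (h.dvd_n hl (hu.conj g) (h.of_dvd_n (hxn ▸ index_dvd_of_le hle) hvZ))

end CfsgLib.FourSizes
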