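import Cfsg.Agent.Lib.PGroup.FourSizes.Tools

/-!
Class sizes `1, n, m, n m` with coprime `n, m`: basic facts.
-/

set_option autoImplicit false
set_option linter.style.haveILetI false
set_option linter.unusedSectionVars false

namespace CfsgLib.FourSizes

open Subgroup
open CfsgLib.ThreeCop (IsQ Full vq mem_cent exists_full exists_full' isQ_of_mem isPGroup_zpowers
  mem_normalizer_of_conj commute_conj commute_center sylow_full parts self_mem_cent)
open CfsgLib.ClassGraph (cidx)

variable {G : Type*} [Group G] [Finite G]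

/-- The class sizes are `1`, `n`, `m`, `n m` with coprime `n, m > 1`. -/
structure Hyp (G : Type*) [Group G] (n m : ℕ) : Prop where
  hn : 1 < n
  hm : 1 < m
  cop : n.Coprime m
  sizes : ∀ g : G, cidx g = 1 ∨ cidx g = n ∨ cidx g = m ∨ cidx g = n * m
  exn : ∃ g : G, cidx g = n
  exm : ∃ g : G, cidx g = m
  exnm : ∃ g : G, cidx g = n * m

variable {n m : ℕ} (h : Hyp G n m)

include h in
theorem Hyp.symm : Hyp G m n where
  hn := h.hm
  hm := h.hn
  cop := h.cop.symm
  sizes g := by
    rw [mul_comm m n]
    rcases h.sizes g with e | e | e | e <;> simp [e]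
  exn := h.exm
  exm := h.exn
  exnm := by rw [mul_comm]; exact h.exnm

include h in
theorem Hyp.ne : n ≠ m := fun e => by
  have h1 := h.cop
  have h2 := h.hn
  subst e
  rw [Nat.coprime_self] at h1
  omega

include h in
theorem Hyp.not_both {p : ℕ} (hp : p.Prime) (h1 : p ∣ n) : ¬ p ∣ m := fun h2 =>
  hp.not_dvd_one (h.cop ▸ Nat.dvd_gcd h1 h2)

include h in
theorem Hyp.eq_one_of_dvd_both {k : ℕ} (h1 : k ∣ n) (h2 : k ∣ m) : k = 1 :=
  Nat.eq_one_of_dvd_coprimes h.cop h1 h2

include h in
theorem Hyp.not_center_n {g : G} (hg : cidx g = n) : g ∉ center G := fun hc => by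
  have := h.hn; rw [ClassGraph.cidx_of_mem_center hc] at hg; omega

include h in
theorem Hyp.not_center_nm {g : G} (hg : cidx g = n * m) : g ∉ center G := fun hc => by
  have h1 := h.hn
  rw [ClassGraph.cidx_of_mem_center hc] at hg
  exact absurd (Nat.eq_one_of_mul_eq_one_right hg.symm) (by omega)

include h in
theorem Hyp.dvd_nm (g : G) : cidx g ∣ n * m := by
  rcases h.sizes g with e | e | e | e <;> rw [e]
  · exact one_dvd _
  · exact dvd_mul_right n m
  · exact dvd_mul_left m n

include h in
/-- A class size that is a multiple of `m`. -/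
theorem Hyp.of_dvd {g : G} (hd : m ∣ cidx g) : cidx g = m ∨ cidx g = n * m := by
  have := h.hm
  rcases h.sizes g with e | e | e | e
  · rw [e] at hd; have := Nat.le_of_dvd one_pos hd; omega
  · rw [e] at hd; have := h.eq_one_of_dvd_both hd dvd_rfl; omega
  · exact Or.inl e
  · exact Or.inr e

include h in
/-- A class size dividing `n`. -/
theorem Hyp.of_dvd_n {g : G} (hd : cidx g ∣ n) (hg : g ∉ center G) : cidx g = n := by
  have := h.hm
  rcases h.sizes g with e | e | e | e
  · exact absurd (ClassGraph.mem_center_of_cidx e) hg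
  · exact e
  · rw [e] at hd; have := h.eq_one_of_dvd_both hd dvd_rfl; omega
  · rw [e] at hd
    have := h.eq_one_of_dvd_both ((dvd_mul_left m n).trans hd) dvd_rfl
    omega

include h in
/-- An element whose class size is prime to a prime divisor of `n`. -/
theorem Hyp.not_dvd_idx {p : ℕ} (hp : p.Prime) (hpn : p ∣ n) {g : G} (hd : ¬ p ∣ cidx g)
    (hg : g ∉ center G) : cidx g = m := by
  rcases h.sizes g with e | e | e | e
  · exact absurd (ClassGraph.mem_center_of_cidx e) hg
  · exact absurd (e ▸ hpn) hd
  · exact e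
  · exact absurd (e ▸ hpn.mul_right m) hd

include h in
theorem Hyp.exists_primary : ∃ r : ℕ, r.Prime ∧ ∃ x : G, IsQ r x ∧ cidx x = n := by
  obtain ⟨g, hg⟩ := h.exn
  obtain ⟨r, hr, a, ha, haz, haZ⟩ := FourSizes.exists_primary (h.not_center_n hg)
  exact ⟨r, hr, a, ha, h.of_dvd_n (hg ▸ index_dvd_of_le (cent_le_of_mem_zpowers haz)) haZ⟩

include h in
/-- In the centralizer of a primary element of largest class size the elements of coprime order
are central. -/
theorem Hyp.P1 {g e : G} (hg : cidx g = n * m) (hc : Commute g e)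
    (hco : (orderOf g).Coprime (orderOf e)) :
    centralizer ({g} : Set G) ≤ centralizer ({e} : Set G) := by
  have hle := ClassGraph.centralizer_mul_le hc hco
  have he : cidx (g * e) = cidx g :=
    Nat.dvd_antisymm (hg ▸ h.dvd_nm _) (index_dvd_of_le (hle.trans inf_le_left))
  rw [← ClassGraph.centralizer_eq_of_le (hle.trans inf_le_left) he.symm]
  exact hle.trans inf_le_right

theorem cent_inf {a b : G} (hc : Commute a b) (hco : (orderOf a).Coprime (orderOf b)) :
    centralizer ({a * b} : Set G) = centralizer ({a} : Set G) ⊓ centralizer ({b} : Set G) :=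
  le_antisymm (ClassGraph.centralizer_mul_le hc hco) fun _ ht =>
    mem_cent.2 ((mem_cent.1 ht.1).mul_right (mem_cent.1 ht.2))

theorem cidx_sub (V : Subgroup G) (v : V) :
    cidx v = (centralizer ({(v : G)} : Set G)).relIndex V := by
  have e : centralizer ({v} : Set V) = (centralizer ({(v : G)} : Set G)).subgroupOf V := by
    ext y
    rw [mem_subgroupOf, mem_centralizer_singleton_iff, mem_centralizer_singleton_iff, Subtype.ext_iff,
      coe_mul, coe_mul]
  rw [cidx, e]
  rfl

theorem mem_center_sub {V : Subgroup G} {v : V} :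
    v ∈ center V ↔ V ≤ centralizer ({(v : G)} : Set G) := by
  rw [mem_center_iff]
  exact ⟨fun hv g hg => mem_cent.2 (congrArg Subtype.val (hv ⟨g, hg⟩)),
    fun hv g => Subtype.ext (mem_cent.1 (hv g.2))⟩

theorem isQ_coe {q : ℕ} {V : Subgroup G} {v : V} : IsQ q (v : G) ↔ IsQ q v := by
  constructor <;> rintro ⟨k, hk⟩ <;> refine ⟨k, ?_⟩
  · exact Subtype.ext (by simpa using hk)
  · simpa using congrArg Subtype.val hk

include h in
/-- The centralizer of a primary `s`-element of class size `m`. -/
theorem Hyp.twoReg {s : ℕ} [hs : Fact s.Prime] {y : G} (hy : IsQ s y) (hym : cidx y = m) :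
    TwoReg ↥(centralizer ({y} : Set G)) s n := by
  intro v hv
  have hv' : ¬ s ∣ orderOf (v : G) := by rwa [orderOf_coe]
  have he := cent_inf (mem_cent.1 v.2).symm (hy.coprime hv')
  have hi : cidx v * m = cidx (y * (v : G)) := by
    rw [cidx_sub, ← hym, cidx, cidx, he, ← inf_relIndex_right,
      relIndex_mul_index inf_le_right, inf_comm]
  have hm := h.hm
  rcases h.of_dvd ⟨cidx v, by rw [← hi, mul_comm]⟩ with e | e <;> rw [e] at hi
  · exact Or.inl (Nat.eq_of_mul_eq_mul_right (by omega) (hi.trans (one_mul m).symm))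
  · exact Or.inr (Nat.eq_of_mul_eq_mul_right (by omega) hi)

include h in
theorem Hyp.relIndex_cent {x y : G} (hx : cidx x = n) (hy : cidx y = m) :
    (centralizer ({x} : Set G)).relIndex (centralizer ({y} : Set G)) = n := by
  have h1 : (centralizer ({x} : Set G) ⊓ centralizer ({y} : Set G)).index = n * m := by
    rw [ClassGraph.index_inf_of_coprime (by rw [show (centralizer ({x} : Set G)).index = n from hx,
      show (centralizer ({y} : Set G)).index = m from hy]; exact h.cop)]
    exact congrArg₂ (· * ·) hx hy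
  rw [← relIndex_mul_index inf_le_right, inf_relIndex_right,
    show (centralizer ({y} : Set G)).index = m from hy] at h1
  exact Nat.eq_of_mul_eq_mul_right (by have := h.hm; omega) h1

end CfsgLib.FourSizes
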