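import Cfsg.Agent.Lib.PGroup.ThreeSizesCoprime.Tools

/-!
Groups in which the class sizes of the `p`-regular elements take one value outside the center.
-/

set_option autoImplicit false
set_option linter.style.haveILetI false
set_option linter.unusedSectionVars false

namespace CfsgLib.FourSizes

open Subgroup
open CfsgLib.ThreeCop (IsQ Full vq mem_cent exists_full exists_full' isQ_of_mem isPGroup_zpowers
  mem_normalizer_of_conj commute_conj commute_center sylow_full parts)
open CfsgLib.ClassGraph (cidx)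
open scoped Pointwise

variable {G : Type*} [Group G] [Finite G]

theorem cent_le_of_mem_zpowers {a g : G} (h : a ∈ zpowers g) :
    centralizer ({g} : Set G) ≤ centralizer ({a} : Set G) := by
  intro t ht
  obtain ⟨k, rfl⟩ := h
  exact mem_cent.2 ((mem_cent.1 ht).zpow_right k)

/-- A noncentral element has a noncentral primary part. -/
theorem exists_primary {g : G} (hg : g ∉ center G) :
    ∃ r : ℕ, r.Prime ∧ ∃ a : G, IsQ r a ∧ a ∈ zpowers g ∧ a ∉ center G := by
  induction hk : orderOf g using Nat.strong_induction_on generalizing g with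
  | _ k ih =>
    subst hk
    have h1 : orderOf g ≠ 1 := fun e => hg (orderOf_eq_one_iff.1 e ▸ (center G).one_mem)
    have hr := Nat.minFac_prime h1
    haveI := Fact.mk hr
    obtain ⟨a, b, hc, hab, ha, hb, haz, hbz⟩ := parts (orderOf g).minFac g
    by_cases haZ : a ∈ center G
    · have hbd : orderOf b ∣ orderOf g := by
        obtain ⟨j, rfl⟩ := hbz
        exact orderOf_dvd_of_pow_eq_one (by
          rw [← zpow_natCast, ← zpow_mul, mul_comm, zpow_mul, zpow_natCast, pow_orderOf_eq_one, one_zpow])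
      have hlt : orderOf b < orderOf g := lt_of_le_of_ne (Nat.le_of_dvd (orderOf_pos g) hbd)
        fun e => hb (e ▸ (orderOf g).minFac_dvd)
      obtain ⟨r, hr, c, hc1, hc2, hc3⟩ := ih _ hlt
        (fun hbZ => hg (hab ▸ (center G).mul_mem haZ hbZ)) rfl
      exact ⟨r, hr, c, hc1, zpowers_le.2 hbz hc2, hc3⟩
    · exact ⟨_, hr, a, ha, haz, haZ⟩

/-- Two subgroups of coprime index have product `G`. -/
theorem exists_mul_of_index_coprime {A B : Subgroup G} (h : A.index.Coprime B.index) (g : G) :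
    ∃ a ∈ A, ∃ b ∈ B, g = a * b := by
  have hst : MulAction.stabilizer A ((1 : G) : G ⧸ B) = B.subgroupOf A := by
    ext a
    rw [MulAction.mem_stabilizer_iff, mem_subgroupOf]
    show (((a : G) * 1 : G) : G ⧸ B) = _ ↔ _
    rw [mul_one, QuotientGroup.eq, mul_one, inv_mem_iff]
  have h1 : (MulAction.orbit A ((1 : G) : G ⧸ B)).ncard = B.relIndex A := by
    rw [← MulAction.index_stabilizer, hst]; rfl
  have h2 : B.index ∣ B.relIndex A * A.index := by
    rw [← inf_relIndex_right, relIndex_mul_index inf_le_right]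
    exact index_dvd_of_le inf_le_left
  have h3 : B.index ∣ B.relIndex A := Nat.Coprime.dvd_of_dvd_mul_right h.symm h2
  have horb : MulAction.orbit A ((1 : G) : G ⧸ B) = Set.univ := by
    refine Set.eq_of_subset_of_ncard_le (Set.subset_univ _) ?_ (Set.toFinite _)
    rw [Set.ncard_univ, h1, ← index_eq_card]
    exact Nat.le_of_dvd (Nat.pos_of_ne_zero (index_ne_zero_of_finite (H := B.subgroupOf A))) h3
  obtain ⟨a, ha⟩ : ((g : G) : G ⧸ B) ∈ MulAction.orbit A ((1 : G) : G ⧸ B) := by
    rw [horb]; trivial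
  have ha' : (((a : G) * 1 : G) : G ⧸ B) = (g : G ⧸ B) := ha
  rw [mul_one, QuotientGroup.eq] at ha'
  exact ⟨a, a.2, _, ha', by group⟩

/-- A subgroup fixing a finite set under translation has order dividing its size. -/
theorem card_dvd_of_smul_eq {H : Subgroup G} {L : Set G} (h : ∀ t ∈ H, t • L = L) :
    Nat.card H ∣ L.ncard := by
  letI act : MulAction H L :=
    { smul := fun t z => ⟨(t : G) * z.1, (h t.1 t.2).subset (Set.smul_mem_smul_set z.2)⟩
      one_smul := fun z => Subtype.ext (one_mul _)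
      mul_smul := fun s t z => Subtype.ext (mul_assoc _ _ _) }
  have hfree : ∀ z : L, MulAction.stabilizer H z = ⊥ := fun z => (eq_bot_iff_forall _).2
    fun t ht => Subtype.ext (mul_eq_right.1 (congrArg Subtype.val (MulAction.mem_stabilizer_iff.1 ht)))
  have h1 := Nat.card_congr (MulAction.selfEquivOrbitsQuotientProd hfree)
  rw [Nat.card_prod, Nat.card_coe_set_eq] at h1
  rw [h1]
  exact dvd_mul_left _ _

/-- For a normal subgroup `M` of `H`, the index `|M : K ∩ M|` divides `|H : K ∩ H|`. -/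
theorem relIndex_dvd_relIndex_normal (K : Subgroup G) {M H : Subgroup G} [M.Normal] (h : M ≤ H) :
    K.relIndex M ∣ K.relIndex H := by
  have h1 := PGroup.relIndex_dvd_index_normal_right (K.subgroupOf H) (M.subgroupOf H)
  rwa [relIndex_subgroupOf h] at h1

theorem vq_add_index (q : ℕ) (H : Subgroup G) :
    vq q H + H.index.factorization q = vq q (⊤ : Subgroup G) := by
  rw [vq, vq, card_top, ← H.card_mul_index,
    Nat.factorization_mul Nat.card_pos.ne' index_ne_zero_of_finite]
  rfl

theorem vq_eq_of_index_eq (q : ℕ) {H K : Subgroup G} (h : H.index = K.index) : vq q H = vq q K := by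
  have h1 := vq_add_index q H
  have h2 := vq_add_index q K
  rw [h] at h1
  omega

section Q

variable {q : ℕ} [hq : Fact q.Prime]

theorem vq_eq_top {H : Subgroup G} (h : ¬ q ∣ H.index) : vq q H = vq q (⊤ : Subgroup G) := by
  rw [← vq_add_index q H, Nat.factorization_eq_zero_of_not_dvd h, add_zero]

theorem _root_.CfsgLib.ThreeCop.Full.fs_top {R H : Subgroup G} (hR : Full q R H) (h : ¬ q ∣ H.index) :
    Full q R (⊤ : Subgroup G) :=
  ⟨le_top, hR.pg, by rw [hR.card, vq_eq_top h]⟩

theorem _root_.CfsgLib.ThreeCop.Full.fs_exists_conj_mem {R H : Subgroup G} (hR : Full q R H) {a : G} (ha : a ∈ H)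
    (haq : IsQ q a) : ∃ h ∈ H, h * a * h⁻¹ ∈ R := by
  obtain ⟨R', hle, hR'⟩ := exists_full (isPGroup_zpowers haq) (zpowers_le.2 ha)
  obtain ⟨h, hh, hc⟩ := hR'.conj hR
  exact ⟨h, hh, hc a (hle (mem_zpowers a))⟩

theorem _root_.CfsgLib.ThreeCop.Full.fs_conj_iff {R₁ R₂ H : Subgroup G} (h₁ : Full q R₁ H) (h₂ : Full q R₂ H) :
    ∃ h ∈ H, ∀ x : G, x ∈ R₁ ↔ h * x * h⁻¹ ∈ R₂ := by
  obtain ⟨h, hh, hc⟩ := h₁.conj h₂
  refine ⟨h, hh, fun x => ⟨hc x, fun hx => ?_⟩⟩
  have e : R₁.map (MulAut.conj h).toMonoidHom = R₂ := by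
    refine eq_of_le_of_card_ge (map_le_iff_le_comap.2 fun z hz => hc z hz) (le_of_eq ?_)
    rw [card_map_of_injective (MulAut.conj h).injective, h₁.card, h₂.card]
  rw [← e] at hx
  obtain ⟨z, hz, hzx⟩ := hx
  rwa [← (MulAut.conj h).injective hzx]

/-- An element with class size prime to `q` commutes with a conjugate of any `q`-element. -/
theorem exists_conj_commute {b : G} (hb : ¬ q ∣ cidx b) {a : G} (ha : IsQ q a) :
    ∃ h : G, Commute (h * a * h⁻¹) b := by
  obtain ⟨R, hR⟩ := exists_full' q (centralizer ({b} : Set G))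
  obtain ⟨h, -, hh⟩ := (Full.fs_top hR hb).fs_exists_conj_mem (mem_top a) ha
  exact ⟨h, mem_cent.1 (hR.le hh)⟩

end Q

theorem mem_cent_conj_inv {g h x : G} (hc : Commute g (h * x * h⁻¹)) :
    h⁻¹ * g * h ∈ centralizer ({x} : Set G) := by
  refine mem_cent.2 ?_
  have := commute_conj hc h⁻¹
  simpa [mul_assoc] using this

/-- Every element commutes with a conjugate of `x`: then `x` is central. -/
theorem center_of_cover {x : G} (h : ∀ g : G, ∃ c : G, Commute g (c * x * c⁻¹)) : x ∈ center G := by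
  refine ClassGraph.mem_center_of_cidx (index_eq_one.2 (PGroup.eq_top_of_forall_conj_mem _ fun g => ?_))
  obtain ⟨c, hc⟩ := h g
  exact ⟨c, mem_cent_conj_inv hc⟩

/-! ### One noncentral class size of `p`-regular elements -/

/-- The `p`-regular elements have class size `1` or `n`. -/
def TwoReg (G : Type*) [Group G] (p n : ℕ) : Prop :=
  ∀ g : G, ¬ p ∣ orderOf g → cidx g = 1 ∨ cidx g = n

variable {p n : ℕ} (h : TwoReg G p n)

include h in
theorem TwoReg.idx {g : G} (hg : ¬ p ∣ orderOf g) (hgZ : g ∉ center G) : cidx g = n :=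
  (h g hg).resolve_left fun e => hgZ (ClassGraph.mem_center_of_cidx e)

include h in
theorem TwoReg.cent_eq [hp : Fact p.Prime] {a b : G} (hc : Commute a b)
    (hco : (orderOf a).Coprime (orderOf b)) (ha : ¬ p ∣ orderOf a) (hb : ¬ p ∣ orderOf b)
    (haZ : a ∉ center G) (hbZ : b ∉ center G) :
    centralizer ({a} : Set G) = centralizer ({b} : Set G) := by
  have hle := ClassGraph.centralizer_mul_le hc hco
  have hab : ¬ p ∣ orderOf (a * b) := fun hd =>
    (hp.out.dvd_mul.1 (hd.trans hc.orderOf_mul_dvd_mul_orderOf)).elim ha hb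
  have habZ : a * b ∉ center G := fun hz => haZ (ThreeCop.center_of_le_cent hz (hle.trans inf_le_left))
  have e := h.idx hab habZ
  rw [← ClassGraph.centralizer_eq_of_le (hle.trans inf_le_left) (by rw [h.idx ha haZ, e]),
    ← ClassGraph.centralizer_eq_of_le (hle.trans inf_le_right) (by rw [h.idx hb hbZ, e])]

include h in
/-- A `p`-element centralising a Sylow subgroup is central when `p` does not divide `n`. -/
theorem TwoReg.center_of_full [hp : Fact p.Prime] (hpn : ¬ p ∣ n) {P : Subgroup G}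
    (hP : Full p P (⊤ : Subgroup G)) {x : G} (hx : x ∈ P)
    (hPx : P ≤ centralizer ({x} : Set G)) : x ∈ center G := by
  refine center_of_cover fun g => ?_
  obtain ⟨a, b, hc, hab, ha, hb, -, -⟩ := parts p g
  have hb' : ¬ p ∣ cidx b := by
    rcases h b hb with e | e <;> rw [e]
    · exact hp.out.not_dvd_one
    · exact hpn
  obtain ⟨R, hle, hR⟩ := exists_full (isPGroup_zpowers ha)
    (zpowers_le.2 (mem_cent.2 hc : a ∈ centralizer ({b} : Set G)))
  obtain ⟨c, -, hcc⟩ := Full.fs_conj_iff hP (Full.fs_top hR hb')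
  refine ⟨c, ?_⟩
  have h1 : Commute a (c * x * c⁻¹) := by
    have h2 : c⁻¹ * a * c ∈ P := (hcc _).2 (by
      simpa [mul_assoc] using hle (mem_zpowers a))
    have := commute_conj (mem_cent.1 (hPx h2)) c
    simpa [mul_assoc] using this
  have h2 : Commute b (c * x * c⁻¹) := (mem_cent.1 (hR.le ((hcc x).1 hx))).symm
  rw [hab]
  exact h1.mul_left h2

include h in
/-- No noncentral `q`-element with `q` prime to `n` commutes, up to conjugation, with all
`p`-elements. -/
theorem TwoReg.no_cover [hp : Fact p.Prime] (hn : 1 < n) {q : ℕ} [hq : Fact q.Prime] (hqp : q ≠ p)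
    (hqn : ¬ q ∣ n) {x : G} (hx : IsQ q x) (hxZ : x ∉ center G)
    (hall : ∀ a : G, IsQ p a → ∃ c : G, Commute a (c * x * c⁻¹)) : False := by
  have hxp : ¬ p ∣ orderOf x := hx.not_dvd_of_ne hp.out hqp.symm
  have hxn : cidx x = n := h.idx hxp hxZ
  by_cases hA : ∃ l : ℕ, l.Prime ∧ l ≠ p ∧ l ≠ q ∧ ∃ u : G, IsQ l u ∧ u ∉ center G
  · obtain ⟨l, hl, hlp, hlq, u, hu, huZ⟩ := hA
    haveI := Fact.mk hl
    have hother : ∀ k : ℕ, k.Prime → k ≠ p → k ≠ q → ∀ c : G, IsQ k c → c ∉ center G →
        ∃ d : G, centralizer ({c} : Set G) = centralizer ({d * x * d⁻¹} : Set G) := by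
      intro k hk hkp hkq c hc hcZ
      haveI := Fact.mk hk
      have hcp : ¬ p ∣ orderOf c := hc.not_dvd_of_ne hp.out hkp.symm
      obtain ⟨d, hd⟩ := exists_conj_commute (q := q) (b := c) (by rw [h.idx hcp hcZ]; exact hqn) hx
      exact ⟨d, (h.cent_eq hd.symm (hc.coprime ((hx.conj d).not_dvd_of_ne hk hkq)) hcp
        ((hx.conj d).not_dvd_of_ne hp.out hqp.symm) hcZ (ThreeCop.not_center_conj hxZ d))⟩
    refine hxZ (center_of_cover fun g => ?_)
    obtain ⟨a, b, hab, rfl, ha, hb, -, hbz⟩ := parts p g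
    by_cases hbZ : b ∈ center G
    · obtain ⟨c, hc⟩ := hall a ha
      exact ⟨c, hc.mul_left (commute_center hbZ _).symm⟩
    obtain ⟨k, hk, c, hck, hcz, hcZ⟩ := exists_primary hbZ
    haveI := Fact.mk hk
    have hkp : k ≠ p := by
      rintro rfl
      refine hcZ ?_
      rw [hck.eq_one fun hd => hb (hd.trans ?_)]
      · exact (center G).one_mem
      · obtain ⟨j, rfl⟩ := hcz
        exact orderOf_dvd_of_pow_eq_one (by
          rw [← zpow_natCast, ← zpow_mul, mul_comm, zpow_mul, zpow_natCast, pow_orderOf_eq_one, one_zpow])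
    have hgc : a * b ∈ centralizer ({c} : Set G) :=
      cent_le_of_mem_zpowers hcz (mem_cent.2 (hab.mul_left (Commute.refl b)))
    suffices ∃ d : G, centralizer ({c} : Set G) = centralizer ({d * x * d⁻¹} : Set G) by
      obtain ⟨d, hd⟩ := this
      exact ⟨d, mem_cent.1 (hd ▸ hgc)⟩
    by_cases hkq : k = q
    · subst hkq
      obtain ⟨R, hR⟩ := exists_full' l (centralizer ({c} : Set G))
      have hcp : ¬ p ∣ orderOf c := hck.not_dvd_of_ne hp.out hkp.symm
      obtain ⟨v, hvR, hvZ⟩ : ∃ v ∈ R, v ∉ center G := by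
        by_contra hcon
        push Not at hcon
        have hRu : R ≤ centralizer ({u} : Set G) := fun z hz =>
          mem_cent.2 ((commute_center (hcon z hz) u).symm)
        have hfull : Full l R (centralizer ({u} : Set G)) := ⟨hRu, hR.pg, by
          rw [hR.card, vq_eq_of_index_eq l ((h.idx hcp hcZ).trans
            (h.idx (hu.not_dvd_of_ne hp.out hlp.symm) huZ).symm :
            (centralizer ({c} : Set G)).index = (centralizer ({u} : Set G)).index)]⟩
        exact huZ (hcon u (hfull.mem_of_isQ (ThreeCop.self_mem_cent u) hu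
          (mem_normalizer_of_conj fun z hz => by
            rw [ThreeCop.conj_center (hcon z hz)]; exact hz)))
      have hv : IsQ l v := isQ_of_mem hR.pg hvR
      obtain ⟨d, hd⟩ := hother l hl hlp hlq v hv hvZ
      exact ⟨d, (h.cent_eq (mem_cent.1 (hR.le hvR)).symm (hck.coprime (hv.not_dvd_of_ne hk hlq.symm))
        hcp (hv.not_dvd_of_ne hp.out hlp.symm) hcZ hvZ).trans hd⟩
    · exact hother k hk hkp hkq c hck hcZ
  · push Not at hA
    have hprimes : ∀ k : ℕ, k.Prime → k ∣ n → k = p := by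
      intro k hk hkn
      by_contra hkp
      have hkq : k ≠ q := fun e => hqn (e ▸ hkn)
      haveI := Fact.mk hk
      let K : Sylow k G := default
      have hle : (K : Subgroup G) ≤ centralizer ({x} : Set G) := fun z hz =>
        mem_cent.2 (commute_center (hA k hk hkp hkq z (isQ_of_mem K.isPGroup' hz)) x).symm
      exact K.not_dvd_index ((hkn.trans hxn.symm.dvd).trans (index_dvd_of_le hle))
    let P : Sylow p G := default
    have hco : (cidx x).Coprime (P : Subgroup G).index := by
      rw [hxn]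
      refine Nat.coprime_of_dvd fun k hk h1 h2 => ?_
      obtain rfl := hprimes k hk h1
      exact P.not_dvd_index h2
    have hPx : (centralizer ({x} : Set G)).subgroupOf (P : Subgroup G) = ⊤ := by
      refine PGroup.eq_top_of_forall_conj_mem _ fun a => ?_
      obtain ⟨c, hc⟩ := hall a.1 (isQ_of_mem P.isPGroup' a.2)
      obtain ⟨u, hu, w, hw, huw⟩ := exists_mul_of_index_coprime hco c⁻¹
      refine ⟨⟨w⁻¹, inv_mem hw⟩, ?_⟩
      rw [mem_subgroupOf]
      have e : c * x * c⁻¹ = w⁻¹ * x * w := by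
        rw [show c = w⁻¹ * u⁻¹ by rw [← inv_inj, huw]; group]
        calc w⁻¹ * u⁻¹ * x * (w⁻¹ * u⁻¹)⁻¹ = w⁻¹ * (u⁻¹ * x * u) * w := by group
          _ = _ := by rw [show u⁻¹ * x * u = x by
              rw [mul_assoc, ← (mem_cent.1 hu).eq, inv_mul_cancel_left]]
      rw [e] at hc
      have := mem_cent_conj_inv (h := w⁻¹) (g := (a : G)) (x := x) (by simpa using hc)
      simpa using this
    have hpn : ¬ p ∣ n := fun hd => P.not_dvd_index
      ((hd.trans hxn.symm.dvd).trans (index_dvd_of_le (subgroupOf_eq_top.1 hPx)))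
    obtain ⟨k, hk, hkn⟩ := Nat.exists_prime_and_dvd (show n ≠ 1 by omega)
    exact hpn (hprimes k hk hkn ▸ hkn)

include h in
/-- If neither `p` nor `q` divides `n` then the `q`-elements are central. -/
theorem TwoReg.central [hp : Fact p.Prime] (hn : 1 < n) (hpn : ¬ p ∣ n) {q : ℕ} [hq : Fact q.Prime]
    (hqp : q ≠ p) (hqn : ¬ q ∣ n) {x : G} (hx : IsQ q x) : x ∈ center G := by
  by_contra hxZ
  refine h.no_cover hn hqp hqn hx hxZ fun a ha => ?_
  obtain ⟨c, hc⟩ := exists_conj_commute (q := p) (b := x)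
    (by rw [h.idx (hx.not_dvd_of_ne hp.out hqp.symm) hxZ]; exact hpn) ha
  refine ⟨c⁻¹, ?_⟩
  have := commute_conj hc c⁻¹
  simpa [mul_assoc] using this

end CfsgLib.FourSizes
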